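import Groth.Agent.SymAlgExist.Construct

/-!
# The universal property of the symmetric algebra of a quasi-coherent module
-/

set_option autoImplicit false
set_option maxHeartbeats 1600000
set_option synthInstance.maxHeartbeats 400000
universe u
open CategoryTheory CategoryTheory.Limits AlgebraicGeometry TopologicalSpace Opposite

set_option backward.isDefEq.respectTransparency false

noncomputable section

namespace Groth.Agent.SymAlgExist

variable {S : Scheme.{u}} (E : S.Modules) (B : RelSpec.QCAlg S)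

/-- Maps of abelian presheaves into a quasi-coherent algebra that agree on affine opens are equal. -/
theorem ab_hom_ext {P : TopCat.Presheaf AddCommGrpCat.{u} S.carrier} {f g : P ⟶ B.toAb}
    (h : ∀ U : S.Opens, IsAffineOpen U → f.app (op U) = g.app (op U)) : f = g := by
  apply (Functor.IsCoverDense.restrictHomEquivHom (G := Scheme.AffineZariskiSite.toOpensFunctor S)
    (K := Opens.grothendieckTopology S) (ℱ := P)
    (ℱ' := (⟨B.toAb, B.isSheaf_toAb⟩ : TopCat.Sheaf AddCommGrpCat.{u} S.carrier))).symm.injective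
  ext U : 2
  exact h U.unop.1 U.unop.2

/-- Sections of a quasi-coherent algebra are detected on affine opens. -/
theorem eq_of_affine {U : S.Opens} {s t : B.presheaf.obj (op U)}
    (h : ∀ (W : S.Opens) (hle : W ≤ U), IsAffineOpen W →
      B.presheaf.map (homOfLE hle).op s = B.presheaf.map (homOfLE hle).op t) : s = t := by
  refine TopCat.Sheaf.eq_of_locally_eq' (F := (⟨B.toAb, B.isSheaf_toAb⟩ : TopCat.Sheaf AddCommGrpCat.{u} S.carrier))
    (fun W : {W : S.Opens // IsAffineOpen W ∧ W ≤ U} => W.1) U (fun W => homOfLE W.2.2) ?_ s t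
    (fun W => h W.1 W.2.2 W.2.1)
  intro x hx
  obtain ⟨W, hW, hxW, hWU⟩ := exists_isAffineOpen_mem_and_subset (X := S) (x := x) (U := U) hx
  exact Opens.mem_iSup.mpr ⟨⟨W, hW, hWU⟩, hxW⟩

/-- The extension of `φ` to `Sym E(U)`. -/
def liftHom (φ : E ⟶ B.toModule) (U : S.Opens) : SymAt E U →+* B.presheaf.obj (op U) :=
  letI := (B.str.app (op U)).hom.toAlgebra
  (SymmetricAlgebra.lift
    ({ toFun := fun m => (φ.app U).hom m
       map_add' := fun a b => map_add (φ.app U).hom a b
       map_smul' := fun a m => Scheme.Modules.Hom.app_smul φ a m } :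
      Γ(E, U) →ₗ[Γ(S, U)] B.presheaf.obj (op U))).toRingHom

theorem liftHom_algebraMap (φ : E ⟶ B.toModule) (U : S.Opens) (a : Γ(S, U)) :
    liftHom E B φ U (algebraMap _ _ a) = (B.str.app (op U)).hom a :=
  letI := (B.str.app (op U)).hom.toAlgebra
  AlgHom.commutes (SymmetricAlgebra.lift _) a

theorem liftHom_ι (φ : E ⟶ B.toModule) (U : S.Opens) (m : Γ(E, U)) :
    liftHom E B φ U (SymmetricAlgebra.ι _ _ m) = (φ.app U).hom m :=
  letI := (B.str.app (op U)).hom.toAlgebra
  SymmetricAlgebra.lift_ι_apply _ m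

theorem liftHom_res (φ : E ⟶ B.toModule) {U V : S.Opens} (h : V ≤ U) :
    (B.presheaf.map (homOfLE h).op).hom.comp (liftHom E B φ U) = (liftHom E B φ V).comp (symRes E h) := by
  refine ringHom_ext (fun a => ?_) fun m => ?_
  · simp only [RingHom.comp_apply, symRes_algebraMap, liftHom_algebraMap]
    exact (CategoryTheory.congr_fun (B.str.naturality (homOfLE h).op) a).symm
  · simp only [RingHom.comp_apply, symRes_ι, liftHom_ι]
    exact (CategoryTheory.congr_fun ((Scheme.Modules.Hom.mapPresheaf φ).naturality (homOfLE h).op) m).symm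

variable [E.IsQuasicoherent]

/-- `E ⟶ Sym E` over the affine opens. -/
def jRestrict : (Scheme.AffineZariskiSite.toOpensFunctor S).op ⋙ E.presheaf ⟶
    (Scheme.AffineZariskiSite.toOpensFunctor S).op ⋙ (symAlg E).toAb where
  app U := AddCommGrpCat.ofHom (AddMonoidHom.mk'
    (fun m => (inv (sectHom E U.unop.1 U.unop.2)).hom (SymmetricAlgebra.ι _ _ m))
    (fun a b => by rw [map_add, map_add]))
  naturality U V i := by
    refine AddCommGrpCat.hom_ext (AddMonoidHom.ext fun m => ?_)
    show (inv (sectHom E V.unop.1 V.unop.2)).hom (SymmetricAlgebra.ι _ _ (E.presheaf.map _ m)) =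
      (symAlg E).presheaf.map _ ((inv (sectHom E U.unop.1 U.unop.2)).hom (SymmetricAlgebra.ι _ _ m))
    apply ((ConcreteCategory.isIso_iff_bijective _).mp (inferInstance : IsIso (sectHom E V.unop.1 V.unop.2))).1
    refine Eq.trans ?_ (CategoryTheory.congr_fun (sectHom_res E i.unop) _).symm
    show (inv (sectHom E V.unop.1 V.unop.2) ≫ sectHom E V.unop.1 V.unop.2) _ =
      symRes E _ ((inv (sectHom E U.unop.1 U.unop.2) ≫ sectHom E U.unop.1 U.unop.2) _)
    rw [IsIso.inv_hom_id, IsIso.inv_hom_id]
    exact (symRes_ι E _ m).symm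

/-- `E ⟶ Sym E` as a map of abelian presheaves. -/
def jAb : E.presheaf ⟶ (symAlg E).toAb :=
  Functor.IsCoverDense.restrictHomEquivHom (G := Scheme.AffineZariskiSite.toOpensFunctor S)
    (K := Opens.grothendieckTopology S) (ℱ := E.presheaf)
    (ℱ' := (⟨(symAlg E).toAb, (symAlg E).isSheaf_toAb⟩ : TopCat.Sheaf AddCommGrpCat.{u} S.carrier)) (jRestrict E)

theorem sectHom_jAb (U : S.Opens) (hU : IsAffineOpen U) (m : Γ(E, U)) :
    (sectHom E U hU).hom ((jAb E).app (op U) m) = SymmetricAlgebra.ι _ _ m := by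
  have h : (jAb E).app (op U) = (jRestrict E).app (op ⟨U, hU⟩) :=
    NatTrans.congr_app ((Functor.IsCoverDense.restrictHomEquivHom (G := Scheme.AffineZariskiSite.toOpensFunctor S)
      (K := Opens.grothendieckTopology S) (ℱ := E.presheaf)
      (ℱ' := (⟨(symAlg E).toAb, (symAlg E).isSheaf_toAb⟩ : TopCat.Sheaf AddCommGrpCat.{u} S.carrier))).symm_apply_apply
        (jRestrict E)) (op ⟨U, hU⟩)
  refine (congrArg (fun f => (sectHom E U hU).hom (f m)) h).trans ?_
  show (inv (sectHom E U hU) ≫ sectHom E U hU) _ = _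
  rw [IsIso.inv_hom_id]; rfl

theorem jAb_smul (U : S.Opens) (r : Γ(S, U)) (m : Γ(E, U)) :
    ((jAb E).app (op U) (r • m) : (symAlg E).presheaf.obj (op U)) =
      ((symAlg E).str.app (op U)).hom r * (jAb E).app (op U) m := by
  refine eq_of_affine (symAlg E) fun W hle hW => ?_
  rw [map_mul]
  refine (CategoryTheory.congr_fun ((jAb E).naturality (homOfLE hle).op) (r • m)).symm.trans ?_
  refine Eq.trans ?_ (congrArg₂ (· * ·) (CategoryTheory.congr_fun ((symAlg E).str.naturality (homOfLE hle).op) r)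
    (CategoryTheory.congr_fun ((jAb E).naturality (homOfLE hle).op) m))
  apply ((ConcreteCategory.isIso_iff_bijective _).mp (inferInstance : IsIso (sectHom E W hW))).1
  show (sectHom E W hW).hom ((jAb E).app (op W) (E.presheaf.map _ (r • m))) =
    (sectHom E W hW).hom (((symAlg E).str.app (op W)).hom (S.presheaf.map _ r) * (jAb E).app (op W) (E.presheaf.map _ m))
  rw [map_mul, Scheme.Modules.map_smul, sectHom_jAb, sectHom_jAb, map_smul, Algebra.smul_def]
  exact congrArg (· * _) (CategoryTheory.congr_fun (str_sectHom E W hW) _).symm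

/-- `E ⟶ Sym E`. -/
def symJ : E ⟶ (symAlg E).toModule :=
  ⟨letI := (symAlg E).moduleSect
   PresheafOfModules.homMk (jAb E) fun U r m => jAb_smul E U.unop r m⟩

theorem symJ_app (U : S.Opens) (m : Γ(E, U)) : (symJ E).app U m = (jAb E).app (op U) m := rfl

/-- The extension of `φ` over the affine opens. -/
def psiRestrict (φ : E ⟶ B.toModule) : (Scheme.AffineZariskiSite.toOpensFunctor S).op ⋙ (symAlg E).presheaf ⟶
    (Scheme.AffineZariskiSite.toOpensFunctor S).op ⋙ B.presheaf where
  app U := sectHom E U.unop.1 U.unop.2 ≫ CommRingCat.ofHom (liftHom E B φ U.unop.1)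
  naturality U V i := by
    refine CommRingCat.hom_ext (RingHom.ext fun x => ?_)
    show liftHom E B φ _ ((sectHom E V.unop.1 V.unop.2).hom ((symAlg E).presheaf.map _ x)) =
      B.presheaf.map _ (liftHom E B φ _ ((sectHom E U.unop.1 U.unop.2).hom x))
    refine (congrArg (liftHom E B φ V.unop.1) (CategoryTheory.congr_fun (sectHom_res E i.unop) x)).trans ?_
    exact (RingHom.congr_fun (liftHom_res E B φ _) _).symm

/-- The extension of `φ` as a map of presheaves of rings. -/
def psiMap (φ : E ⟶ B.toModule) : (symAlg E).presheaf ⟶ B.presheaf :=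
  Functor.IsCoverDense.restrictHomEquivHom (G := Scheme.AffineZariskiSite.toOpensFunctor S)
    (K := Opens.grothendieckTopology S) (ℱ := (symAlg E).presheaf)
    (ℱ' := (⟨B.presheaf, B.isSheaf⟩ : TopCat.Sheaf CommRingCat.{u} S.carrier)) (psiRestrict E B φ)

theorem psiMap_app (φ : E ⟶ B.toModule) (U : S.Opens) (hU : IsAffineOpen U) :
    (psiMap E B φ).app (op U) = sectHom E U hU ≫ CommRingCat.ofHom (liftHom E B φ U) :=
  NatTrans.congr_app ((Functor.IsCoverDense.restrictHomEquivHom (G := Scheme.AffineZariskiSite.toOpensFunctor S)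
    (K := Opens.grothendieckTopology S) (ℱ := (symAlg E).presheaf)
    (ℱ' := (⟨B.presheaf, B.isSheaf⟩ : TopCat.Sheaf CommRingCat.{u} S.carrier))).symm_apply_apply
      (psiRestrict E B φ)) (op ⟨U, hU⟩)

theorem psiMap_comm (φ : E ⟶ B.toModule) : (symAlg E).str ≫ psiMap E B φ = B.str := by
  apply (Functor.IsCoverDense.restrictHomEquivHom (G := Scheme.AffineZariskiSite.toOpensFunctor S)
    (K := Opens.grothendieckTopology S) (ℱ := S.presheaf)
    (ℱ' := (⟨B.presheaf, B.isSheaf⟩ : TopCat.Sheaf CommRingCat.{u} S.carrier))).symm.injective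
  ext U : 2
  change (symAlg E).str.app (op U.unop.1) ≫ (psiMap E B φ).app (op U.unop.1) = B.str.app (op U.unop.1)
  rw [psiMap_app E B φ U.unop.1 U.unop.2, ← Category.assoc, str_sectHom]
  exact CommRingCat.hom_ext (RingHom.ext fun a => liftHom_algebraMap E B φ _ a)

theorem isSymAlg_symAlg : RelSpec.IsSymAlg E (symAlg E) (symJ E) := by
  intro B φ
  refine ⟨⟨psiMap E B φ, psiMap_comm E B φ⟩, ?_, fun ψ hψ => ?_⟩
  · refine Scheme.Modules.hom_ext _ _ fun U => ?_
    refine NatTrans.congr_app (ab_hom_ext B (f := Scheme.Modules.Hom.mapPresheaf (symJ E ≫ RelSpec.QCAlg.Hom.toModuleMap (A := symAlg E) (B := B) ⟨psiMap E B φ, psiMap_comm E B φ⟩))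
      (g := Scheme.Modules.Hom.mapPresheaf φ) fun W hW => ?_) (op U)
    refine AddCommGrpCat.hom_ext (AddMonoidHom.ext fun m => ?_)
    show ((psiMap E B φ).app (op W)).hom ((jAb E).app (op W) m) = (φ.app W).hom m
    rw [psiMap_app E B φ W hW]
    show liftHom E B φ W ((sectHom E W hW).hom ((jAb E).app (op W) m)) = _
    rw [sectHom_jAb, liftHom_ι]
  · refine RelSpec.QCAlg.hom_ext ?_
    apply (Functor.IsCoverDense.restrictHomEquivHom (G := Scheme.AffineZariskiSite.toOpensFunctor S)
      (K := Opens.grothendieckTopology S) (ℱ := (symAlg E).presheaf)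
      (ℱ' := (⟨B.presheaf, B.isSheaf⟩ : TopCat.Sheaf CommRingCat.{u} S.carrier))).symm.injective
    ext U : 2
    change ψ.hom.app (op U.unop.1) = (psiMap E B φ).app (op U.unop.1)
    rw [psiMap_app E B φ U.unop.1 U.unop.2, ← cancel_epi (inv (sectHom E U.unop.1 U.unop.2)), IsIso.inv_hom_id_assoc]
    refine CommRingCat.hom_ext (ringHom_ext (fun a => ?_) fun m => ?_)
    · refine Eq.trans ?_ (liftHom_algebraMap E B φ _ a).symm
      have h1 : (inv (sectHom E U.unop.1 U.unop.2)).hom (algebraMap _ _ a) =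
          ((symAlg E).str.app (op U.unop.1)).hom a := by
        apply ((ConcreteCategory.isIso_iff_bijective _).mp (inferInstance : IsIso (sectHom E U.unop.1 U.unop.2))).1
        show (inv (sectHom E U.unop.1 U.unop.2) ≫ sectHom E U.unop.1 U.unop.2) _ = _
        rw [IsIso.inv_hom_id]
        exact (CategoryTheory.congr_fun (str_sectHom E _ U.unop.2) a).symm
      refine (congrArg (ψ.hom.app (op U.unop.1)).hom h1).trans ?_
      exact CategoryTheory.congr_fun (NatTrans.congr_app ψ.comm (op U.unop.1)) a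
    · refine Eq.trans ?_ (liftHom_ι E B φ _ m).symm
      have h1 : (inv (sectHom E U.unop.1 U.unop.2)).hom (SymmetricAlgebra.ι _ _ m) =
          (jAb E).app (op U.unop.1) m := by
        apply ((ConcreteCategory.isIso_iff_bijective _).mp (inferInstance : IsIso (sectHom E U.unop.1 U.unop.2))).1
        show (inv (sectHom E U.unop.1 U.unop.2) ≫ sectHom E U.unop.1 U.unop.2) _ = _
        rw [IsIso.inv_hom_id]
        exact (sectHom_jAb E _ U.unop.2 m).symm
      refine (congrArg (ψ.hom.app (op U.unop.1)).hom h1).trans ?_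
      exact congrArg (fun f : E ⟶ B.toModule => f.app U.unop.1 m) hψ

end Groth.Agent.SymAlgExist
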