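import Mathlib.Algebra.Polynomial.AlgebraMap
import Groth.Prelude.Def_RelProj4
import Groth.Prelude.Def_Pic
import Groth.Agent.InvBasic.Basic
import Groth.Agent.SymAlgExist.Universal

/-!
# The graded symmetric algebra of an invertible module
-/

set_option autoImplicit false
set_option maxHeartbeats 1600000
set_option synthInstance.maxHeartbeats 400000
universe u
open CategoryTheory CategoryTheory.Limits AlgebraicGeometry TopologicalSpace Opposite Polynomial
open scoped HomogeneousIdeal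

set_option backward.isDefEq.respectTransparency false

noncomputable section

namespace Groth.Agent.SymAlgExist

variable {S : Scheme.{u}}

theorem toModuleMap_app {A B : RelSpec.QCAlg S} (φ : A ⟶ B) (U : S.Opens) (x : A.presheaf.obj (op U)) :
    (RelSpec.QCAlg.Hom.toModuleMap φ).app U x = (φ.hom.app (op U)).hom x := rfl

/-- Over an affine open, a symmetric algebra is the symmetric algebra of the sections. -/
theorem exists_affHom {E : S.Modules} [E.IsQuasicoherent] {A : RelSpec.QCAlg S} {j : E ⟶ A.toModule}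
    (hj : RelSpec.IsSymAlg E A j) (U : S.Opens) (hU : IsAffineOpen U) :
    ∃ e : A.presheaf.obj (op U) →+* SymAt E U, Function.Bijective e ∧
      (∀ a, e ((A.str.app (op U)).hom a) = algebraMap _ _ a) ∧
      ∀ m, e ((j.app U) m) = SymmetricAlgebra.ι _ _ m := by
  obtain ⟨α, hα, -⟩ := hj (symAlg E) (symJ E)
  obtain ⟨β, hβ, -⟩ := isSymAlg_symAlg E A j
  have hcomp : ∀ {A₁ A₂ A₃ : RelSpec.QCAlg S} {f : E ⟶ A₁.toModule} {g : E ⟶ A₂.toModule} {h : E ⟶ A₃.toModule}
      (φ : A₁ ⟶ A₂) (ψ : A₂ ⟶ A₃), f ≫ RelSpec.QCAlg.Hom.toModuleMap φ = g → g ≫ RelSpec.QCAlg.Hom.toModuleMap ψ = h →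
      f ≫ RelSpec.QCAlg.Hom.toModuleMap (φ ≫ ψ) = h := by
    intro A₁ A₂ A₃ f g h φ ψ hf hg
    rw [← hg, ← hf]
    exact Scheme.Modules.hom_ext _ _ fun W => rfl
  have hid : ∀ {A₁ : RelSpec.QCAlg S} (f : E ⟶ A₁.toModule), f ≫ RelSpec.QCAlg.Hom.toModuleMap (𝟙 A₁) = f :=
    fun f => Scheme.Modules.hom_ext _ _ fun W => rfl
  have h1 : α ≫ β = 𝟙 A := (hj A j).unique (hcomp α β hα hβ) (hid j)
  have h2 : β ≫ α = 𝟙 (symAlg E) := (isSymAlg_symAlg E (symAlg E) (symJ E)).unique (hcomp β α hβ hα) (hid _)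
  refine ⟨(α.hom.app (op U) ≫ sectHom E U hU).hom, ?_, fun a => ?_, fun m => ?_⟩
  · have : IsIso (α.hom.app (op U)) :=
      ⟨⟨β.hom.app (op U), congrArg (fun f : A ⟶ A => f.hom.app (op U)) h1,
        congrArg (fun f : symAlg E ⟶ symAlg E => f.hom.app (op U)) h2⟩⟩
    exact (ConcreteCategory.isIso_iff_bijective _).mp inferInstance
  · show (sectHom E U hU).hom ((A.str.app (op U) ≫ α.hom.app (op U)).hom a) = _
    rw [← NatTrans.comp_app, α.comm]
    exact CategoryTheory.congr_fun (str_sectHom E U hU) a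
  · show (sectHom E U hU).hom ((α.hom.app (op U)).hom (j.app U m)) = _
    refine Eq.trans (congrArg (sectHom E U hU).hom ?_) (sectHom_jAb E U hU m)
    exact congrArg (fun f : E ⟶ (symAlg E).toModule => f.app U m) hα

variable {L : S.Modules} {𝒮 : RelProj.QCGrAlg S} {j : L ⟶ 𝒮.toModule}

/-- The coordinate. -/
abbrev coord (j : L ⟶ 𝒮.toModule) {U : S.Opens} (ℓ : Γ(L, U)) : 𝒮.presheaf.obj (op U) := j.app U ℓ

/-- `ℓ` generates `L(U)` freely and gives the coordinate `j ℓ` of `𝒮(U)`. -/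
theorem coeff_facts [L.IsQuasicoherent] (hj : RelProj.IsGrSymAlg L 𝒮 j) (U : S.Opens) (hU : IsAffineOpen U) {ℓ : Γ(L, U)}
    (hℓ : InvBasic.IsBasis L ℓ) :
    (∀ x : 𝒮.presheaf.obj (op U), ∃ p : Polynomial Γ(S, U),
      p.eval₂ (𝒮.str.app (op U)).hom (coord j ℓ) = x) ∧
    ∀ (a : Γ(S, U)) (n : ℕ), (𝒮.str.app (op U)).hom a * coord j ℓ ^ n = 0 → a = 0 := by
  obtain ⟨e, he, he0, he1⟩ := exists_affHom hj.1 U hU
  have hb : Function.Bijective (fun r : Γ(S, U) => r • ℓ) := by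
    have h := hℓ U le_rfl
    simpa using h
  let c : Γ(S, U) ≃ₗ[Γ(S, U)] Γ(L, U) := LinearEquiv.ofBijective (LinearMap.toSpanSingleton Γ(S, U) Γ(L, U) ℓ) hb
  let π : SymAt L U →ₐ[Γ(S, U)] Polynomial Γ(S, U) :=
    SymmetricAlgebra.lift ((LinearMap.toSpanSingleton Γ(S, U) (Polynomial Γ(S, U)) Polynomial.X).comp c.symm.toLinearMap)
  have hπ : π (SymmetricAlgebra.ι _ _ ℓ) = Polynomial.X := by
    rw [SymmetricAlgebra.lift_ι_apply, LinearMap.comp_apply]
    have : c.symm ℓ = 1 := c.symm_apply_eq.mpr (one_smul _ ℓ).symm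
    show LinearMap.toSpanSingleton _ _ Polynomial.X (c.symm ℓ) = _
    rw [this, LinearMap.toSpanSingleton_apply, one_smul]
  refine ⟨fun x => ?_, fun a n h => ?_⟩
  · suffices H : ∀ y : SymAt L U, ∃ p : Polynomial Γ(S, U),
        p.eval₂ (algebraMap Γ(S, U) (SymAt L U)) (SymmetricAlgebra.ι _ _ ℓ) = y by
      obtain ⟨p, hp⟩ := H (e x)
      refine ⟨p, he.1 ?_⟩
      rw [Polynomial.hom_eval₂, ← hp, he1]
      congr 1
      exact RingHom.ext he0
    intro y
    induction y using SymmetricAlgebra.induction with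
    | algebraMap a => exact ⟨Polynomial.C a, Polynomial.eval₂_C _ _⟩
    | ι m =>
      obtain ⟨a, rfl⟩ := hb.2 m
      refine ⟨Polynomial.C a * Polynomial.X, ?_⟩
      rw [Polynomial.eval₂_mul, Polynomial.eval₂_C, Polynomial.eval₂_X, map_smul, Algebra.smul_def]
    | mul a b ha hb =>
      obtain ⟨p, rfl⟩ := ha; obtain ⟨q, rfl⟩ := hb
      exact ⟨p * q, Polynomial.eval₂_mul _ _⟩
    | add a b ha hb =>
      obtain ⟨p, rfl⟩ := ha; obtain ⟨q, rfl⟩ := hb
      exact ⟨p + q, Polynomial.eval₂_add _ _⟩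
  · have h' := congrArg (fun z => π (e z)) h
    simp only [map_mul, map_pow, he0, he1, hπ, map_zero, AlgHom.commutes] at h'
    have := congrArg (fun p => Polynomial.coeff p n) h'
    simpa [Polynomial.algebraMap_apply] using this

section basis

variable [L.IsQuasicoherent] (hj : RelProj.IsGrSymAlg L 𝒮 j) (U : S.Opens) (hU : IsAffineOpen U) {ℓ : Γ(L, U)}
  (hℓ : InvBasic.IsBasis L ℓ)

omit [L.IsQuasicoherent] in
include hj in
theorem coord_mem : coord j ℓ ∈ 𝒮.deg U hU 1 := hj.2 U hU ℓ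

omit [L.IsQuasicoherent] in
include hj in
theorem str_mul_pow_mem (a : Γ(S, U)) (n : ℕ) :
    (𝒮.str.app (op U)).hom a * coord j ℓ ^ n ∈ 𝒮.deg U hU n := by
  have h := SetLike.mul_mem_graded (𝒮.str_mem U hU a) (SetLike.pow_mem_graded n (coord_mem hj U hU (ℓ := ℓ)))
  simpa using h

include hj hℓ in
theorem exists_eq_str_mul_pow {n : ℕ} {x : 𝒮.presheaf.obj (op U)} (hx : x ∈ 𝒮.deg U hU n) :
    ∃ a, x = (𝒮.str.app (op U)).hom a * coord j ℓ ^ n := by
  classical
  obtain ⟨p, hp⟩ := (coeff_facts hj U hU hℓ).1 x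
  refine ⟨p.coeff n, ?_⟩
  rw [← DirectSum.decompose_of_mem_same (𝒮.deg U hU) hx, ← hp]
  show (DirectSum.decompose (𝒮.deg U hU) (p.eval₂ (𝒮.str.app (op U)).hom (coord j ℓ)) n : 𝒮.presheaf.obj (op U)) = _
  clear hp hx
  induction p using Polynomial.induction_on' with
  | add p q hp hq =>
    simp only [Polynomial.eval₂_add, DirectSum.decompose_add, DirectSum.add_apply, AddMemClass.coe_add,
      Polynomial.coeff_add, map_add, add_mul, hp, hq]
  | monomial k a =>
    rw [Polynomial.eval₂_monomial, Polynomial.coeff_monomial]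
    by_cases h : k = n
    · subst h
      rw [if_pos rfl, DirectSum.decompose_of_mem_same _ (str_mul_pow_mem hj U hU a k)]
    · rw [if_neg h, DirectSum.decompose_of_mem_ne _ (str_mul_pow_mem hj U hU a k) h, map_zero, zero_mul]

include hj hU hℓ in
theorem str_inj {a b : Γ(S, U)} (n : ℕ)
    (h : (𝒮.str.app (op U)).hom a * coord j ℓ ^ n = (𝒮.str.app (op U)).hom b * coord j ℓ ^ n) : a = b :=
  sub_eq_zero.mp ((coeff_facts hj U hU hℓ).2 _ n (by rw [map_sub, sub_mul, sub_eq_zero]; exact h))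

include hj hℓ in
theorem mem_span_coord {n : ℕ} (hn : 0 < n) {x : 𝒮.presheaf.obj (op U)} (hx : x ∈ 𝒮.deg U hU n) :
    x ∈ Ideal.span {coord j ℓ} := by
  obtain ⟨a, rfl⟩ := exists_eq_str_mul_pow hj U hU hℓ hx
  exact Ideal.mul_mem_left _ _ (Ideal.pow_mem_of_mem _ (Ideal.mem_span_singleton_self _) n hn)

include hj hℓ in
theorem coord_not_mem (y : Proj (𝒮.deg U hU)) : coord j ℓ ∉ y.asHomogeneousIdeal := by
  intro h
  refine y.not_irrelevant_le ((HomogeneousIdeal.irrelevant_le _).mpr fun n hn x hx => ?_)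
  exact (Ideal.span_le.mpr (Set.singleton_subset_iff.mpr h)) (mem_span_coord hj U hU hℓ hn hx)

/-- `O(U) → Away`. -/
def strAway : Γ(S, U) →+* HomogeneousLocalization.Away (𝒮.deg U hU) (coord j ℓ) :=
  (HomogeneousLocalization.fromZeroRingHom (𝒮.deg U hU) (Submonoid.powers (coord j ℓ))).comp (𝒮.strZero U hU).hom

include hj hℓ in
theorem bijective_strAway : Function.Bijective (strAway (𝒮 := 𝒮) (j := j) U hU (ℓ := ℓ)) := by
  refine ⟨(injective_iff_map_eq_zero _).mpr fun a ha => ?_, fun z => ?_⟩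
  · have h := congrArg HomogeneousLocalization.val ha
    rw [HomogeneousLocalization.val_zero] at h
    change Localization.mk ((𝒮.str.app (op U)).hom a) ⟨1, _⟩ = 0 at h
    rw [Localization.mk_eq_mk', IsLocalization.mk'_eq_zero_iff] at h
    obtain ⟨⟨m, k, rfl⟩, hm⟩ := h
    exact (coeff_facts hj U hU hℓ).2 a k (by rw [mul_comm]; exact hm)
  · obtain ⟨n, x, hx, rfl⟩ := HomogeneousLocalization.Away.mk_surjective _ (coord_mem hj U hU (ℓ := ℓ)) z
    obtain ⟨a, ha⟩ := exists_eq_str_mul_pow hj U hU hℓ (n := n) (x := x) (by simpa using hx)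
    refine ⟨a, HomogeneousLocalization.val_injective _ ?_⟩
    rw [HomogeneousLocalization.Away.val_mk]
    change Localization.mk ((𝒮.str.app (op U)).hom a) ⟨1, _⟩ = _
    rw [Localization.mk_eq_mk_iff, Localization.r_iff_exists]
    exact ⟨1, by rw [ha]; show 1 * (coord j ℓ ^ n * _) = 1 * (1 * _); ring⟩

end basis

/-- Every point has an affine neighbourhood with a basis. -/
theorem exists_affine_basis (hL : PicF.IsInvertible L) (x : S) (W : S.Opens) (hxW : x ∈ W) :
    ∃ (U : S.Opens) (_ : IsAffineOpen U) (_ : x ∈ U) (_ : U ≤ W) (ℓ : Γ(L, U)), InvBasic.IsBasis L ℓ := by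
  obtain ⟨V, hxV, ℓ, hℓ⟩ := InvBasic.exists_isBasis hL x
  obtain ⟨U, hU, hxU, hle⟩ := exists_isAffineOpen_mem_and_subset (x := x) (U := V ⊓ W) ⟨hxV, hxW⟩
  exact ⟨U, hU, hxU, hle.trans inf_le_right, _, hℓ.restrict (hle.trans inf_le_left)⟩

end Groth.Agent.SymAlgExist
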