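import Groth.Agent.RelProjBasic.QMapPreimage
import Groth.Agent.RelProjBasic.QMapComp
import Groth.Agent.SymAlgExist.GrSymInv

/-!
# `Proj` of the graded symmetric algebra of an invertible module
-/

set_option autoImplicit false
set_option maxHeartbeats 1600000
set_option synthInstance.maxHeartbeats 400000
universe u
open CategoryTheory CategoryTheory.Limits AlgebraicGeometry TopologicalSpace Opposite HomogeneousLocalization
open scoped HomogeneousIdeal

set_option backward.isDefEq.respectTransparency false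

noncomputable section

namespace Groth.Agent.SymAlgExist

variable {X PL : Scheme.{u}} {L : X.Modules} {𝒮 : RelProj.QCGrAlg X} {j : L ⟶ 𝒮.toModule}
  {pL : PL ⟶ X}
  {chartL : ∀ (U : X.Opens) (hU : IsAffineOpen U), (((pL ⁻¹ᵁ U : PL.Opens) : Scheme.{u}) ≅ Proj (𝒮.deg U hU))}

section basis

variable (hj : RelProj.IsGrSymAlg L 𝒮 j) (hPL : RelProj.IsRelProj 𝒮 pL chartL) (U : X.Opens) (hU : IsAffineOpen U) {ℓ : Γ(L, U)}

variable (chartL) in
/-- The chart `Spec 𝒮(U)_(ℓ) ⟶ Proj 𝒮`. -/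
def chartMap (hj : RelProj.IsGrSymAlg L 𝒮 j) (ℓ : Γ(L, U)) :
    Spec (CommRingCat.of (Away (𝒮.deg U hU) (coord j ℓ))) ⟶ PL :=
  Proj.awayι (𝒮.deg U hU) (coord j ℓ) (coord_mem hj U hU) one_pos ≫ RelProj.emb pL chartL U hU

instance : IsOpenImmersion (chartMap chartL U hU hj ℓ) := by unfold chartMap; infer_instance

include hPL in
theorem chartMap_comp :
    chartMap chartL U hU hj ℓ ≫ pL = Spec.map (CommRingCat.ofHom (strAway (𝒮 := 𝒮) (j := j) U hU (ℓ := ℓ))) ≫ hU.fromSpec := by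
  rw [chartMap, Category.assoc, RelProjBasic.emb_comp hPL, Proj.awayι_toSpecZero_assoc, ← Spec.map_comp_assoc]
  rfl

variable [L.IsQuasicoherent] (hℓ : InvBasic.IsBasis L ℓ)

include hℓ in
theorem opensRange_chartMap : (chartMap chartL U hU hj ℓ).opensRange = pL ⁻¹ᵁ U := by
  apply Opens.ext
  ext z
  constructor
  · rintro ⟨w, rfl⟩
    exact RelProjBasic.emb_mem (chart := chartL) U hU _
  · intro hz
    obtain ⟨y, rfl⟩ := RelProjBasic.exists_emb_eq (chart := chartL) U hU z hz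
    obtain ⟨w, hw⟩ := (Proj.opensRange_awayι (𝒮.deg U hU) (coord j ℓ) (coord_mem hj U hU) one_pos).ge
      ((ProjectiveSpectrum.mem_basicOpen _ _ _).mpr (coord_not_mem hj U hU hℓ y))
    exact ⟨w, congrArg (RelProj.emb pL chartL U hU) hw⟩

include hj hPL hU hℓ in
theorem isIso_restrict : IsIso (pL ∣_ U) := by
  have : IsIso (CommRingCat.ofHom (strAway (𝒮 := 𝒮) (j := j) U hU (ℓ := ℓ))) :=
    (ConcreteCategory.isIso_iff_bijective _).mpr (bijective_strAway hj U hU hℓ)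
  let e := (chartMap chartL U hU hj ℓ).isoOpensRange ≪≫ PL.isoOfEq (opensRange_chartMap hj U hU hℓ)
  have he : e.hom ≫ (pL ∣_ U) = Spec.map (CommRingCat.ofHom (strAway (𝒮 := 𝒮) (j := j) U hU (ℓ := ℓ))) ≫ hU.isoSpec.inv := by
    rw [← cancel_mono U.ι, Category.assoc, Category.assoc, morphismRestrict_ι, IsAffineOpen.isoSpec_inv_ι,
      ← chartMap_comp hj hPL U hU]
    simp [e]
  have : IsIso (e.hom ≫ (pL ∣_ U)) := by rw [he]; infer_instance
  exact IsIso.of_isIso_comp_left e.hom _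

include hj hPL hℓ in
/-- Where `a ℓ^n` does not vanish. -/
theorem str_mul_pow_not_mem_iff (a : Γ(X, U)) (n : ℕ) (y : Proj (𝒮.deg U hU)) :
    (𝒮.str.app (op U)).hom a * coord j ℓ ^ n ∉ y.asHomogeneousIdeal ↔
      pL.base (RelProj.emb pL chartL U hU y) ∈ X.basicOpen a := by
  have hg := coord_mem hj U hU (ℓ := ℓ)
  have hgy := coord_not_mem hj U hU hℓ y
  have hp : y.asHomogeneousIdeal.toIdeal.IsPrime := y.isPrime
  have h1 : (𝒮.str.app (op U)).hom a * coord j ℓ ^ n ∉ y.asHomogeneousIdeal ↔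
      (𝒮.str.app (op U)).hom a * coord j ℓ ∉ y.asHomogeneousIdeal := by
    show _ ∉ y.asHomogeneousIdeal.toIdeal ↔ _ ∉ y.asHomogeneousIdeal.toIdeal
    simp only [hp.mul_mem_iff_mem_or_mem, not_or]
    exact and_congr_right fun _ => iff_of_true (fun h => hgy (hp.mem_of_pow_mem n h)) hgy
  obtain ⟨w, rfl⟩ := (Proj.opensRange_awayι (𝒮.deg U hU) (coord j ℓ) hg one_pos).ge
    ((ProjectiveSpectrum.mem_basicOpen _ _ _).mpr hgy)
  rw [h1]
  have hf : (𝒮.str.app (op U)).hom a * coord j ℓ ∈ 𝒮.deg U hU 1 := by simpa using str_mul_pow_mem hj U hU a 1 (ℓ := ℓ)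
  refine ((ProjectiveSpectrum.mem_basicOpen _ _ _).symm.trans
    ((SetLike.ext_iff.mp (Proj.awayι_preimage_basicOpen (𝒮.deg U hU) hg one_pos hf one_pos) w))).trans ?_
  have he : Away.isLocalizationElem hg hf = strAway (𝒮 := 𝒮) (j := j) U hU (ℓ := ℓ) a := by
    refine HomogeneousLocalization.val_injective _ ?_
    rw [Away.isLocalizationElem, Away.val_mk]
    change Localization.mk _ _ = Localization.mk ((𝒮.str.app (op U)).hom a) ⟨1, _⟩
    rw [Localization.mk_eq_mk_iff, Localization.r_iff_exists]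
    exact ⟨1, by show 1 * (1 * _) = 1 * (coord j ℓ ^ 1 * _); ring⟩
  have hpt : pL.base (RelProj.emb pL chartL U hU (Proj.awayι (𝒮.deg U hU) (coord j ℓ) hg one_pos w)) =
      hU.fromSpec.base (Spec.map (CommRingCat.ofHom (strAway (𝒮 := 𝒮) (j := j) U hU (ℓ := ℓ))) w) :=
    congrArg (fun q => q.base w) (chartMap_comp hj hPL U hU (ℓ := ℓ))
  rw [hpt]
  refine Iff.trans ?_ (SetLike.ext_iff.mp (hU.fromSpec_preimage_basicOpen a) _).symm
  rw [PrimeSpectrum.mem_basicOpen]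
  show Away.isLocalizationElem hg hf ∉ w.asIdeal ↔ strAway U hU a ∉ w.asIdeal
  rw [he]

end basis

variable [L.IsQuasicoherent] (hL : PicF.IsInvertible L) (hj : RelProj.IsGrSymAlg L 𝒮 j) (hPL : RelProj.IsRelProj 𝒮 pL chartL)

include hL hj hPL in
theorem isIso_pL : IsIso pL := by
  choose U hU hxU hle ℓ hℓ using fun x : X => exists_affine_basis hL x ⊤ (Opens.mem_top _)
  show MorphismProperty.isomorphisms Scheme pL
  refine IsZariskiLocalAtTarget.of_iSup_eq_top U (top_le_iff.mp fun x _ => Opens.mem_iSup.mpr ⟨x, hxU x⟩) fun x => ?_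
  exact isIso_restrict hj hPL (U x) (hU x) (hℓ x)

/-- A generator of the degree-`d` part on `V` restricts to one on a basic open. -/
theorem subset_span_res {V : X.Opens} (hV : IsAffineOpen V) (r : Γ(X, V)) {d : ℕ} {t : 𝒮.presheaf.obj (op V)}
    (ht : ((𝒮.deg V hV d : AddSubgroup _) : Set (𝒮.presheaf.obj (op V))) ⊆ (Ideal.span {t} : Set (𝒮.presheaf.obj (op V)))) :
    ((𝒮.deg (X.basicOpen r) (hV.basicOpen r) d : AddSubgroup _) : Set (𝒮.presheaf.obj (op (X.basicOpen r)))) ⊆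
      (Ideal.span {𝒮.res hV (hV.basicOpen r) (X.basicOpen_le r) t} : Set (𝒮.presheaf.obj (op (X.basicOpen r)))) := by
  classical
  intro b hb
  let ψ := 𝒮.res hV (hV.basicOpen r) (X.basicOpen_le r)
  let c := (𝒮.str.app (op V)).hom r
  let _ := (𝒮.presheaf.map (homOfLE (X.basicOpen_le r)).op).hom.toAlgebra
  have hloc : IsLocalization.Away c (𝒮.presheaf.obj (op (X.basicOpen r))) := 𝒮.isQC V hV r
  obtain ⟨k, x, hx⟩ := IsLocalization.Away.surj c b
  change b * ψ c ^ k = ψ x at hx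
  have hu : IsUnit (ψ c) := IsLocalization.Away.algebraMap_isUnit c
  have hd : b * ψ c ^ k ∈ 𝒮.deg (X.basicOpen r) (hV.basicOpen r) d := by
    simpa using SetLike.mul_mem_graded (A := 𝒮.deg (X.basicOpen r) (hV.basicOpen r)) hb
      (SetLike.pow_mem_graded k (Graded.map_mem ψ (𝒮.str_mem V hV r)))
  have hxd : ψ (DirectSum.decompose (𝒮.deg V hV) x d : 𝒮.presheaf.obj (op V)) = b * ψ c ^ k := by
    rw [GradedRingHom.map_directSumDecompose, ← hx, DirectSum.decompose_of_mem_same _ hd]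
  obtain ⟨z, hz⟩ := Ideal.mem_span_singleton'.mp (ht (SetLike.coe_mem (DirectSum.decompose (𝒮.deg V hV) x d)))
  obtain ⟨v, hv⟩ := hu
  refine Ideal.mem_span_singleton'.mpr ⟨ψ z * ↑(v ^ k)⁻¹, ?_⟩
  calc ψ z * ↑(v ^ k)⁻¹ * ψ t = ψ (z * t) * ↑(v ^ k)⁻¹ := by rw [map_mul]; ring
    _ = b := by rw [hz, hxd, ← hv, mul_assoc, ← Units.val_pow_eq_pow_val, Units.mul_inv, mul_one]

include hj in
/-- Over a basis, `deg d` lies in the ideal of `a ℓ^d` iff `a` is a unit. -/
theorem subset_span_iff {U : X.Opens} (hU : IsAffineOpen U) {ℓ : Γ(L, U)} (hℓ : InvBasic.IsBasis L ℓ) (a : Γ(X, U)) (d : ℕ) :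
    ((𝒮.deg U hU d : AddSubgroup _) : Set (𝒮.presheaf.obj (op U))) ⊆
      (Ideal.span {(𝒮.str.app (op U)).hom a * coord j ℓ ^ d} : Set (𝒮.presheaf.obj (op U))) ↔ IsUnit a := by
  classical
  refine ⟨fun h => ?_, fun h x hx => ?_⟩
  · have h1 : coord j ℓ ^ d ∈ 𝒮.deg U hU d := by
      simpa using SetLike.pow_mem_graded d (coord_mem hj U hU (ℓ := ℓ))
    obtain ⟨y, hy⟩ := Ideal.mem_span_singleton'.mp (h h1)
    have hm := str_mul_pow_mem hj U hU a d (ℓ := ℓ)
    obtain ⟨b, hb⟩ := exists_eq_str_mul_pow hj U hU hℓ (n := 0)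
      (SetLike.coe_mem (DirectSum.decompose (𝒮.deg U hU) y 0))
    rw [pow_zero, mul_one] at hb
    have hy0 := congrArg (fun z => (DirectSum.decompose (𝒮.deg U hU) z d : 𝒮.presheaf.obj (op U))) hy
    rw [DirectSum.decompose_of_mem_same _ h1,
      DirectSum.coe_decompose_mul_of_right_mem_of_le (𝒜 := 𝒮.deg U hU) hm le_rfl, Nat.sub_self, hb,
      ← mul_assoc, ← map_mul] at hy0
    refine IsUnit.of_mul_eq_one_right b (str_inj hj U hU hℓ d ?_)
    rw [map_one, one_mul]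
    exact hy0
  · obtain ⟨c, rfl⟩ := exists_eq_str_mul_pow hj U hU hℓ hx
    obtain ⟨v, rfl⟩ := h
    refine Ideal.mem_span_singleton'.mpr ⟨(𝒮.str.app (op U)).hom (c * ↑v⁻¹), ?_⟩
    rw [← mul_assoc, ← map_mul, mul_assoc, Units.inv_mul, mul_one]

end Groth.Agent.SymAlgExist
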