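import Groth.Agent.RelProjBasic.QMapId
import Groth.Agent.SymAlgExist.GrSymInvProj

/-!
# The morphism `r_{L,ψ}`: where it is defined
-/

set_option autoImplicit false
set_option maxHeartbeats 1600000
set_option synthInstance.maxHeartbeats 400000
universe u
open CategoryTheory CategoryTheory.Limits AlgebraicGeometry TopologicalSpace Opposite HomogeneousLocalization
open scoped HomogeneousIdeal

set_option backward.isDefEq.respectTransparency false

noncomputable section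

namespace Groth.Agent.SymAlgExist

variable {Y X P PL : Scheme.{u}} {q : X ⟶ Y} {L : X.Modules} [L.IsQuasicoherent]
  {𝒮 : RelProj.QCGrAlg Y} {𝒮L : RelProj.QCGrAlg X} {j : L ⟶ 𝒮L.toModule} {u : RelProj.QGrHom q 𝒮 𝒮L}
  {p : P ⟶ Y} {chart : ∀ (U : Y.Opens) (hU : IsAffineOpen U), (((p ⁻¹ᵁ U : P.Opens) : Scheme.{u}) ≅ Proj (𝒮.deg U hU))}
  {pL : PL ⟶ X} {chartL : ∀ (U : X.Opens) (hU : IsAffineOpen U), (((pL ⁻¹ᵁ U : PL.Opens) : Scheme.{u}) ≅ Proj (𝒮L.deg U hU))}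

theorem le_preimage_top (V : X.Opens) : V ≤ q ⁻¹ᵁ (⊤ : Y.Opens) := le_top.trans (Scheme.Hom.preimage_top q).ge

variable (q u) in
/-- `t = ψ(f)` does not vanish at `x`. -/
def NonVanish (f : 𝒮.presheaf.obj (op ⊤)) (d : ℕ) (x : X) : Prop :=
  ∃ (V : X.Opens) (hV : IsAffineOpen V), x ∈ V ∧
    ((𝒮L.deg V hV d : AddSubgroup (𝒮L.presheaf.obj (op V))) : Set (𝒮L.presheaf.obj (op V))) ⊆
      (Ideal.span {(u.appLE ⊤ V (le_preimage_top (q := q) V)).hom f} : Set (𝒮L.presheaf.obj (op V)))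

theorem appLE_res (f : 𝒮.presheaf.obj (op ⊤)) {V W : X.Opens} (hV : IsAffineOpen V) (hW : IsAffineOpen W) (h : W ≤ V) :
    𝒮L.res hV hW h ((u.appLE ⊤ V (le_preimage_top (q := q) V)).hom f) = (u.appLE ⊤ W (le_preimage_top (q := q) W)).hom f :=
  ConcreteCategory.congr_hom (u.appLE_map (le_preimage_top (q := q) V) h) f

/-- A basic open with a basis, inside a given affine open. -/
theorem exists_basis_basicOpen (hL : PicF.IsInvertible L) {V : X.Opens} (hV : IsAffineOpen V) {x : X} (hx : x ∈ V) :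
    ∃ (r : Γ(X, V)) (ℓ : Γ(L, X.basicOpen r)), x ∈ X.basicOpen r ∧ InvBasic.IsBasis L ℓ := by
  obtain ⟨U, hU, hxU, -, ℓ, hℓ⟩ := exists_affine_basis hL x ⊤ (Opens.mem_top _)
  obtain ⟨r, r', hrr, hxr⟩ := exists_basicOpen_le_affine_inter hV hU x ⟨hx, hxU⟩
  exact ⟨r, _, hxr, hℓ.restrict (hrr.le.trans (X.basicOpen_le r'))⟩

variable (hL : PicF.IsInvertible L) (hj : RelProj.IsGrSymAlg L 𝒮L j) (hPL : RelProj.IsRelProj 𝒮L pL chartL)
  (hY : IsAffineOpen (⊤ : Y.Opens)) {d : ℕ} (hd : 0 < d) (f : 𝒮.presheaf.obj (op ⊤)) (hf : f ∈ 𝒮.deg ⊤ hY d)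

include hL hj hPL hd hf in
/-- A point over which `t` does not vanish lies in a chart at `f`. -/
theorem exists_chart_of_nonVanish {z : PL} (h : NonVanish q u f d (pL.base z)) :
    ∃ (W : X.Opens) (hW : IsAffineOpen W) (y : Proj (𝒮L.deg W hW)), RelProj.emb pL chartL W hW y = z ∧
      u.gradedAt ⊤ hY W hW (le_preimage_top (q := q) W) f ∉ y.asHomogeneousIdeal := by
  obtain ⟨V, hV, hxV, hgen⟩ := h
  obtain ⟨r, ℓ, hxr, hℓ⟩ := exists_basis_basicOpen hL hV hxV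
  have hW := hV.basicOpen r
  have hgen' := subset_span_res hV r hgen
  rw [appLE_res f hV hW (X.basicOpen_le r)] at hgen'
  have hmem : (u.appLE ⊤ (X.basicOpen r) (le_preimage_top (q := q) (X.basicOpen r))).hom f ∈ 𝒮L.deg (X.basicOpen r) hW d :=
    u.map_mem ⊤ hY (X.basicOpen r) hW _ hf
  obtain ⟨a, ha⟩ := exists_eq_str_mul_pow hj (X.basicOpen r) hW hℓ hmem
  rw [ha, subset_span_iff hj hW hℓ a d] at hgen'
  obtain ⟨y, hy⟩ := RelProjBasic.exists_emb_eq (chart := chartL) _ hW z hxr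
  refine ⟨_, hW, y, hy, ?_⟩
  show (u.appLE ⊤ (X.basicOpen r) _).hom f ∉ y.asHomogeneousIdeal
  rw [ha, str_mul_pow_not_mem_iff hj hPL _ hW hℓ a d y, X.basicOpen_of_isUnit hgen', hy]
  exact hxr

include hL hj hPL hd hf in
/-- Conversely `t` does not vanish at a point of a chart at `f`. -/
theorem nonVanish_of_chart {W : X.Opens} (hW : IsAffineOpen W) (y : Proj (𝒮L.deg W hW))
    (hy : u.gradedAt ⊤ hY W hW (le_preimage_top (q := q) W) f ∉ y.asHomogeneousIdeal) :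
    NonVanish q u f d (pL.base (RelProj.emb pL chartL W hW y)) := by
  have hxW := RelProjBasic.emb_mem (chart := chartL) W hW y
  obtain ⟨r, ℓ, hxr, hℓ⟩ := exists_basis_basicOpen hL hW hxW
  have hW' := hW.basicOpen r
  obtain ⟨y', hy'⟩ := RelProjBasic.exists_emb_eq (chart := chartL) _ hW' _ hxr
  obtain rfl : Proj.map _ (𝒮L.irrelevant_le_map W hW r) y' = y :=
    (RelProj.emb pL chartL W hW).isOpenEmbedding.injective
      ((congrArg (fun g => g.base y') (RelProjBasic.map_res_emb hPL W hW r)).trans hy')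
  have hy1 : (u.appLE ⊤ (X.basicOpen r) (le_preimage_top (q := q) (X.basicOpen r))).hom f ∉ y'.asHomogeneousIdeal := by
    rw [← appLE_res f hW hW' (X.basicOpen_le r)]
    exact hy
  have hmem : (u.appLE ⊤ (X.basicOpen r) (le_preimage_top (q := q) (X.basicOpen r))).hom f ∈ 𝒮L.deg (X.basicOpen r) hW' d :=
    u.map_mem ⊤ hY (X.basicOpen r) hW' _ hf
  obtain ⟨a, ha⟩ := exists_eq_str_mul_pow hj _ hW' hℓ hmem
  rw [ha, str_mul_pow_not_mem_iff hj hPL _ hW' hℓ a d y', hy'] at hy1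
  refine ⟨X.basicOpen a, hW'.basicOpen a, hy1, ?_⟩
  have hle := X.basicOpen_le a
  have hℓ' := hℓ.restrict hle
  rw [← appLE_res f hW' (hW'.basicOpen a) hle, ha, map_mul, map_pow, RelProj.QCGrAlg.res_apply,
    RelProj.QCGrAlg.res_apply]
  have e1 : (𝒮L.presheaf.map (homOfLE hle).op).hom (coord j ℓ) = coord j (L.presheaf.map (homOfLE hle).op ℓ) :=
    (CategoryTheory.congr_fun ((Scheme.Modules.Hom.mapPresheaf j).naturality (homOfLE hle).op) ℓ).symm
  have e2 : (𝒮L.presheaf.map (homOfLE hle).op).hom ((𝒮L.str.app (op (X.basicOpen r))).hom a) =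
      (𝒮L.str.app (op (X.basicOpen a))).hom ((X.presheaf.map (homOfLE hle).op).hom a) :=
    (CategoryTheory.congr_fun (𝒮L.str.naturality (homOfLE hle).op) a).symm
  rw [e1, e2, subset_span_iff hj (hW'.basicOpen a) hℓ']
  exact RingedSpace.isUnit_res_basicOpen _ a

end Groth.Agent.SymAlgExist

namespace Groth.Agent.SymAlgExist

variable {Y X P PL : Scheme.{u}} {q : X ⟶ Y} {L : X.Modules} [L.IsQuasicoherent]
  {𝒮 : RelProj.QCGrAlg Y} {𝒮L : RelProj.QCGrAlg X} {j : L ⟶ 𝒮L.toModule} {u : RelProj.QGrHom q 𝒮 𝒮L}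
  {p : P ⟶ Y} {chart : ∀ (U : Y.Opens) (hU : IsAffineOpen U), (((p ⁻¹ᵁ U : P.Opens) : Scheme.{u}) ≅ Proj (𝒮.deg U hU))}
  {pL : PL ⟶ X} {chartL : ∀ (U : X.Opens) (hU : IsAffineOpen U), (((pL ⁻¹ᵁ U : PL.Opens) : Scheme.{u}) ≅ Proj (𝒮L.deg U hU))}
  (hL : PicF.IsInvertible L) (hj : RelProj.IsGrSymAlg L 𝒮L j) (hP : RelProj.IsRelProj 𝒮 p chart)
  (hPL : RelProj.IsRelProj 𝒮L pL chartL) (hY : IsAffineOpen (⊤ : Y.Opens)) {d : ℕ} (hd : 0 < d)
  (f : 𝒮.presheaf.obj (op ⊤)) (hf : f ∈ 𝒮.deg ⊤ hY d)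

include hL hj hPL hY hd hf in
theorem mem_domQ_of_nonVanish {z : PL} (h : NonVanish q u f d (pL.base z)) : z ∈ RelProj.domQ u pL chartL := by
  obtain ⟨W, hW, y, rfl, hy⟩ := exists_chart_of_nonVanish hL hj hPL hY hd f hf h
  exact Opens.mem_iSup.mpr ⟨⟨(⟨⊤, hY⟩, ⟨W, hW⟩), le_preimage_top (q := q) W⟩, y,
    RelProjBasic.mem_domOpen_of _ hd hf hy, rfl⟩

include hL hj hP hPL hY hd hf in
/-- `r⁻¹(D₊(f))` is where `t` does not vanish. -/
theorem apply_mem_iff {r : (RelProj.domQ u pL chartL : Scheme.{u}) ⟶ P}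
    (hr : RelProj.IsProjQMapOn u p chart pL chartL (RelProj.domQ u pL chartL) r)
    (z : (RelProj.domQ u pL chartL : Scheme.{u})) :
    (∃ y, RelProj.emb p chart ⊤ hY y = r z ∧ f ∉ y.asHomogeneousIdeal) ↔ NonVanish q u f d (pL.base z.1) := by
  constructor
  · rintro ⟨y, hy, hfy⟩
    obtain ⟨U', hU', hle, hz⟩ := RelProjBasic.exists_chart_of_apply_mem hP hPL hr ⊤ hY hd f hf z y hy hfy
    obtain ⟨y', hy', hfy'⟩ := (RelProjBasic.Ix.mem_range_c _ z).mp hz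
    rw [← hy']
    exact nonVanish_of_chart hL hj hPL hY hd f hf hU' y' hfy'
  · intro h
    obtain ⟨W, hW, y, hy, hfy⟩ := exists_chart_of_nonVanish hL hj hPL hY hd f hf h
    let i : RelProjBasic.Ix (g := q) (𝒮 := 𝒮) := ⟨⊤, hY, W, hW, le_preimage_top (q := q) W, d, hd, f, hf⟩
    exact i.apply_mem hr z ((RelProjBasic.Ix.mem_range_c i z).mpr ⟨y, hy, hfy⟩)

omit [L.IsQuasicoherent] in
/-- A point of `Proj` misses a homogeneous element of positive degree. -/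
theorem exists_homogeneous_not_mem {A : Type u} [CommRing A] {𝒜 : ℕ → AddSubgroup A} [GradedRing 𝒜] (y : Proj 𝒜) :
    ∃ (n : ℕ) (s : A), 0 < n ∧ s ∈ 𝒜 n ∧ s ∉ y.asHomogeneousIdeal := by
  by_contra hc
  push Not at hc
  exact y.not_irrelevant_le ((HomogeneousIdeal.irrelevant_le _).mpr fun n hn x hx => hc n x hn hx)

end Groth.Agent.SymAlgExist
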