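import Groth.Agent.SymAlgExist.ImmCrit

/-!
# When is `r_{L,ψ}` an immersion: global criteria
-/

set_option autoImplicit false
set_option maxHeartbeats 1600000
set_option synthInstance.maxHeartbeats 400000
universe u
open CategoryTheory CategoryTheory.Limits AlgebraicGeometry TopologicalSpace Opposite HomogeneousLocalization
open scoped HomogeneousIdeal

set_option backward.isDefEq.respectTransparency false

noncomputable section

namespace Groth.Agent.SymAlgExist.ImmCrit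

theorem surjective_of_isClosedImmersion_SpecMap {R S : CommRingCat.{u}} (φ : R ⟶ S) [IsClosedImmersion (Spec.map φ)] :
    Function.Surjective φ.hom := by
  have h := (IsClosedImmersion.isAffine_surjective_of_isAffine (Spec.map φ)).2
  have e : φ = (Scheme.ΓSpecIso R).inv ≫ (Spec.map φ).appTop ≫ (Scheme.ΓSpecIso S).hom := by
    rw [Scheme.ΓSpecIso_naturality, Iso.inv_hom_id_assoc]
  rw [e]
  exact (ConcreteCategory.bijective_of_isIso (Scheme.ΓSpecIso S).hom).2.comp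
    (h.comp (ConcreteCategory.bijective_of_isIso (Scheme.ΓSpecIso R).inv).2)

/-- A base change along a chart inside the open where the morphism is factored. -/
theorem prop_snd_of_factor {A W B P : Scheme.{u}} {c : W ⟶ A} {χ : W ⟶ B} {r : A ⟶ P} {g : B ⟶ P}
    (h : IsPullback c χ r g) (O : P.Opens) (r' : A ⟶ (O : Scheme.{u})) (hr' : r' ≫ O.ι = r)
    (g' : B ⟶ (O : Scheme.{u})) (hg' : g' ≫ O.ι = g)
    {Q : MorphismProperty Scheme.{u}} [Q.IsStableUnderBaseChange] (hQ : Q r') : Q χ :=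
  Q.of_isPullback (isPullback_of_comp_mono (m := O.ι) (by rw [hr', hg']; exact h)) hQ

/-- Gluing a property local at the target from charts covering the range. -/
theorem exists_factor_of_charts {A P : Scheme.{u}} (r : A ⟶ P) {ι : Type u} (W B : ι → Scheme.{u})
    (c : ∀ a, W a ⟶ A) (χ : ∀ a, W a ⟶ B a) (g : ∀ a, B a ⟶ P) [∀ a, IsOpenImmersion (g a)]
    (h : ∀ a, IsPullback (c a) (χ a) r (g a)) (hcov : ∀ x : A, ∃ a, r.base x ∈ (g a).opensRange)
    {Q : MorphismProperty Scheme.{u}} [IsZariskiLocalAtTarget Q] (hQ : ∀ a, Q (χ a)) :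
    ∃ r' : A ⟶ ((⨆ a, (g a).opensRange : P.Opens) : Scheme.{u}), r' ≫ (⨆ a, (g a).opensRange).ι = r ∧ Q r' := by
  let O : P.Opens := ⨆ a, (g a).opensRange
  have hrange : Set.range r.base ⊆ Set.range O.ι.base := by
    rw [Scheme.Opens.range_ι]
    rintro _ ⟨x, rfl⟩
    obtain ⟨a, ha⟩ := hcov x
    exact Opens.mem_iSup.mpr ⟨a, ha⟩
  let r' := IsOpenImmersion.lift O.ι r hrange
  have hr' : r' ≫ O.ι = r := IsOpenImmersion.lift_fac _ _ _
  have hgr : ∀ a, Set.range (g a).base ⊆ Set.range O.ι.base := fun a => by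
    rw [Scheme.Opens.range_ι]
    rintro _ ⟨x, rfl⟩
    exact Opens.mem_iSup.mpr ⟨a, x, rfl⟩
  let g' : ∀ a, B a ⟶ (O : Scheme.{u}) := fun a => IsOpenImmersion.lift O.ι (g a) (hgr a)
  have hg' : ∀ a, g' a ≫ O.ι = g a := fun a => IsOpenImmersion.lift_fac _ _ _
  have hoi : ∀ a, IsOpenImmersion (g' a) := fun a => by
    have : IsOpenImmersion (g' a ≫ O.ι) := by rw [hg']; infer_instance
    exact IsOpenImmersion.of_comp _ O.ι
  let 𝒰 : (O : Scheme.{u}).OpenCover :=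
    { I₀ := ι
      X := B
      f := g'
      mem₀ := by
        rw [Scheme.presieve₀_mem_precoverage_iff]
        refine ⟨fun x => ?_, hoi⟩
        obtain ⟨a, y, hy⟩ := Opens.mem_iSup.mp x.2
        exact ⟨a, y, O.ι.isOpenEmbedding.injective ((congrArg (fun f => f.base y) (hg' a)).trans hy)⟩ }
  refine ⟨r', hr', IsZariskiLocalAtTarget.of_openCover 𝒰 fun a => ?_⟩
  show Q (pullback.snd r' (g' a))
  have hpb := isPullback_of_comp_mono (m := O.ι) (a := r') (b := g' a) (by rw [hr', hg']; exact h a)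
  rw [← MorphismProperty.cancel_left_of_respectsIso Q hpb.isoPullback.hom, IsPullback.isoPullback_hom_snd]
  exact hQ a

variable {Y X P PL : Scheme.{u}} {q : X ⟶ Y} {L : X.Modules} [L.IsQuasicoherent]
  {𝒮 : RelProj.QCGrAlg Y} {𝒮L : RelProj.QCGrAlg X} {j : L ⟶ 𝒮L.toModule} {u : RelProj.QGrHom q 𝒮 𝒮L}
  {p : P ⟶ Y} {chart : ∀ (U : Y.Opens) (hU : IsAffineOpen U), (((p ⁻¹ᵁ U : P.Opens) : Scheme.{u}) ≅ Proj (𝒮.deg U hU))}
  {pL : PL ⟶ X} {chartL : ∀ (U : X.Opens) (hU : IsAffineOpen U), (((pL ⁻¹ᵁ U : PL.Opens) : Scheme.{u}) ≅ Proj (𝒮L.deg U hU))}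
  (hL : PicF.IsInvertible L) (hj : RelProj.IsGrSymAlg L 𝒮L j) (hP : RelProj.IsRelProj 𝒮 p chart)
  (hPL : RelProj.IsRelProj 𝒮L pL chartL)
  {r : ((RelProj.domQ u pL chartL : PL.Opens) : Scheme.{u}) ⟶ P}
  (hr : RelProj.IsProjQMapOn u p chart pL chartL (RelProj.domQ u pL chartL) r)
  (hY : IsAffineOpen (⊤ : Y.Opens))

include hL hj hP hPL hr in
/-- The locus is affine as soon as `r` factors through an affine morphism near the chart. -/
theorem isAffineOpen_locus {d : ℕ} (hd : 0 < d) (f : 𝒮.presheaf.obj (op ⊤)) (hf : f ∈ 𝒮.deg ⊤ hY d) (O : P.Opens)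
    (r' : (RelProj.domQ u pL chartL : Scheme.{u}) ⟶ (O : Scheme.{u})) (hr' : r' ≫ O.ι = r) [IsAffineHom r']
    (hle : (dplus chart hY hd f hf).opensRange ≤ O) : IsAffineOpen (locus q u f d) := by
  rw [isAffineOpen_locus_iff hL hj hPL f]
  have hO : IsAffineOpen (O.ι ⁻¹ᵁ (dplus chart hY hd f hf).opensRange) := by
    refine O.ι.isAffineOpen_iff_of_isOpenImmersion.mp ?_
    rw [Scheme.Hom.image_preimage_eq_opensRange_inf, Scheme.Opens.opensRange_ι, inf_eq_right.mpr hle]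
    exact isAffineOpen_opensRange _
  have h := hO.preimage r'
  rw [← Scheme.Hom.comp_preimage, hr', preimage_dplus hL hj hP hPL hr hY hd f hf] at h
  have h' := h.image_of_isOpenImmersion (RelProj.domQ u pL chartL).ι
  rwa [Scheme.Hom.image_preimage_eq_opensRange_inf, Scheme.Opens.opensRange_ι,
    inf_eq_right.mpr (preimage_locus_le hL hj hPL hY hd f hf)] at h'

include hL hj hP hPL hr in
/-- A factorisation near a chart gives the property on the chart. -/
theorem away_of_factor {d : ℕ} (hd : 0 < d) (f : 𝒮.presheaf.obj (op ⊤)) (hf : f ∈ 𝒮.deg ⊤ hY d) (O : P.Opens)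
    (r' : (RelProj.domQ u pL chartL : Scheme.{u}) ⟶ (O : Scheme.{u})) (hr' : r' ≫ O.ι = r)
    (hle : (dplus chart hY hd f hf).opensRange ≤ O) (hV : IsAffineOpen (locus q u f d))
    {Q : MorphismProperty Scheme.{u}} [Q.IsStableUnderBaseChange] (hQ : Q r') :
    Q (Spec.map (CommRingCat.ofHom (Away.map (u.gradedAt ⊤ hY (locus q u f d) hV (le_preimage_top (q := q) _)) f))) := by
  have hg : Set.range (dplus chart hY hd f hf).base ⊆ Set.range O.ι.base := by
    rw [Scheme.Opens.range_ι]; exact hle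
  exact prop_snd_of_factor (isPullback_locus hL hj hP hPL hr hY hd f hf hV) O r' hr'
    (IsOpenImmersion.lift O.ι _ hg) (IsOpenImmersion.lift_fac _ _ _) hQ

include hY in
omit [L.IsQuasicoherent] in
theorem exists_dplus_le (x : P) (O : P.Opens) (hx : x ∈ O) :
    ∃ (d : ℕ) (f : 𝒮.presheaf.obj (op ⊤)) (hd : 0 < d) (hf : f ∈ 𝒮.deg ⊤ hY d),
      x ∈ (dplus chart hY hd f hf).opensRange ∧ (dplus chart hY hd f hf).opensRange ≤ O := by
  obtain ⟨y, rfl⟩ := RelProjBasic.exists_emb_eq (chart := chart) ⊤ hY x trivial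
  obtain ⟨d, f, hd, hf, hfy, hle⟩ := RelProjBasic.exists_basicOpen_subset (RelProj.emb p chart ⊤ hY ⁻¹ᵁ O) hx
  refine ⟨d, f, hd, hf, (mem_range_dplus hY hd f hf _).mpr ⟨y, rfl, hfy⟩, fun w hw => ?_⟩
  obtain ⟨y', rfl, hy'⟩ := (mem_range_dplus hY hd f hf w).mp hw
  exact hle ((ProjectiveSpectrum.mem_basicOpen _ _ _).mpr hy')

include hL hj hP hPL hr in
theorem nonVanish_iff_mem {d : ℕ} (hd : 0 < d) (f : 𝒮.presheaf.obj (op ⊤)) (hf : f ∈ 𝒮.deg ⊤ hY d)
    (z : (RelProj.domQ u pL chartL : Scheme.{u})) :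
    r.base z ∈ (dplus chart hY hd f hf).opensRange ↔ pL.base z.1 ∈ locus q u f d :=
  SetLike.ext_iff.mp (preimage_dplus hL hj hP hPL hr hY hd f hf) z

include hL hj hPL hY in
/-- Covering loci force `r` to be everywhere defined. -/
theorem domQ_eq_top {ι : Type u} (n : ι → ℕ) (s : ι → 𝒮.presheaf.obj (op ⊤))
    (hs : ∀ a, 0 < n a ∧ s a ∈ 𝒮.deg ⊤ hY (n a)) (hcov : (⨆ a, locus q u (s a) (n a)) = ⊤) :
    RelProj.domQ u pL chartL = ⊤ := by
  refine eq_top_iff.mpr fun z _ => ?_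
  obtain ⟨a, ha⟩ := Opens.mem_iSup.mp (hcov.ge (Opens.mem_top (pL.base z)))
  exact preimage_locus_le hL hj hPL hY (hs a).1 (s a) (hs a).2 ha

include hL hj hP hPL hr in
/-- Gluing from the loci. -/
theorem exists_factor_loci {ι : Type u} (n : ι → ℕ) (s : ι → 𝒮.presheaf.obj (op ⊤))
    (hn : ∀ a, 0 < n a) (hs : ∀ a, s a ∈ 𝒮.deg ⊤ hY (n a)) (hcov : (⨆ a, locus q u (s a) (n a)) = ⊤)
    (hV : ∀ a, IsAffineOpen (locus q u (s a) (n a)))
    {Q : MorphismProperty Scheme.{u}} [IsZariskiLocalAtTarget Q]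
    (hQ : ∀ a, Q (Spec.map (CommRingCat.ofHom
      (Away.map (u.gradedAt ⊤ hY (locus q u (s a) (n a)) (hV a) (le_preimage_top (q := q) _)) (s a))))) :
    ∃ r' : (RelProj.domQ u pL chartL : Scheme.{u}) ⟶
        ((⨆ a, (dplus chart hY (hn a) (s a) (hs a)).opensRange : P.Opens) : Scheme.{u}),
      r' ≫ (⨆ a, (dplus chart hY (hn a) (s a) (hs a)).opensRange).ι = r ∧ Q r' := by
  refine exists_factor_of_charts r _ _ _ _ (fun a => dplus chart hY (hn a) (s a) (hs a))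
    (fun a => isPullback_locus hL hj hP hPL hr hY (hn a) (s a) (hs a) (hV a)) (fun z => ?_) hQ
  obtain ⟨a, ha⟩ := Opens.mem_iSup.mp (hcov.ge (Opens.mem_top (pL.base z.1)))
  exact ⟨a, (nonVanish_iff_mem hL hj hP hPL hr hY (hn a) (s a) (hs a) z).mpr ha⟩

include hL hj hP hPL hr in
theorem iSup_locus_eq_top (htop : RelProj.domQ u pL chartL = ⊤) {ι : Type u} (n : ι → ℕ) (s : ι → 𝒮.presheaf.obj (op ⊤))
    (hn : ∀ a, 0 < n a) (hs : ∀ a, s a ∈ 𝒮.deg ⊤ hY (n a))
    (hcov : ∀ z : (RelProj.domQ u pL chartL : Scheme.{u}), ∃ a, r.base z ∈ (dplus chart hY (hn a) (s a) (hs a)).opensRange) :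
    (⨆ a, locus q u (s a) (n a)) = ⊤ := by
  refine eq_top_iff.mpr fun x _ => ?_
  have := isIso_pL hL hj hPL
  obtain ⟨z, hz⟩ := pL.homeomorph.surjective x
  obtain ⟨a, ha⟩ := hcov ⟨z, htop.ge (Opens.mem_top z)⟩
  exact Opens.mem_iSup.mpr ⟨a, (show pL.base z = x from hz) ▸ (nonVanish_iff_mem hL hj hP hPL hr hY (hn a) (s a) (hs a) _).mp ha⟩

end Groth.Agent.SymAlgExist.ImmCrit
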