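import Groth.Prelude.Def_RelSpec
import Groth.Agent.SymAlgExist.GrSymInv

/-!
# Relative spectra: properties checked on charts; generators of symmetric algebras
-/

set_option autoImplicit false
set_option maxHeartbeats 1600000
universe u
open CategoryTheory CategoryTheory.Limits AlgebraicGeometry TopologicalSpace Opposite

set_option backward.isDefEq.respectTransparency false

noncomputable section

namespace Groth.Agent.SymAlgExist

variable {S : Scheme.{u}}

theorem isPullback_ι_π (A : RelSpec.QCAlg S) (U : S.Opens) (hU : IsAffineOpen U) :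
    IsPullback (A.ι U hU) (Spec.map (A.str.app (op U)) ≫ hU.isoSpec.inv) A.π U.ι :=
  (IsOpenImmersion.isPullback _ _ _ _ ((A.ι_π U hU).trans (by rw [Category.assoc, IsAffineOpen.isoSpec_inv_ι]))
    (by rw [Scheme.Opens.opensRange_ι, A.π_preimage])).flip

theorem isPullback_ι_specMap {A B : RelSpec.QCAlg S} (φ : A ⟶ B) (U : S.Opens) (hU : IsAffineOpen U) :
    IsPullback (B.ι U hU) (Spec.map (φ.hom.app (op U))) (RelSpec.QCAlg.specMap φ) (A.ι U hU) :=
  (IsOpenImmersion.isPullback _ _ _ _ (RelSpec.QCAlg.ι_specMap U hU φ)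
    (by rw [← A.π_preimage U hU, ← Scheme.Hom.comp_preimage, RelSpec.QCAlg.specMap_π, B.π_preimage U hU])).flip

/-- A property local at the target holds for `Spec(φ)` if it holds on the charts. -/
theorem specMap_of_charts {A B : RelSpec.QCAlg S} (φ : A ⟶ B) {P : MorphismProperty Scheme.{u}} [IsZariskiLocalAtTarget P]
    (h : ∀ (U : S.Opens), IsAffineOpen U → P (Spec.map (φ.hom.app (op U)))) : P (RelSpec.QCAlg.specMap φ) := by
  let 𝒰 : A.spec.OpenCover :=
    { I₀ := S.affineOpens
      X := fun U => Spec (A.presheaf.obj (op U.1))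
      f := fun U => A.ι U.1 U.2
      mem₀ := by
        rw [Scheme.presieve₀_mem_precoverage_iff]
        refine ⟨fun x => ?_, inferInstance⟩
        obtain ⟨U, hU, hxU, -⟩ := exists_isAffineOpen_mem_and_subset (x := A.π.base x) (U := ⊤) (Opens.mem_top _)
        exact ⟨⟨U, hU⟩, (A.π_preimage U hU).le hxU⟩ }
  refine IsZariskiLocalAtTarget.of_openCover 𝒰 fun U => ?_
  show P (pullback.snd (RelSpec.QCAlg.specMap φ) (A.ι U.1 U.2))
  rw [← MorphismProperty.cancel_left_of_respectsIso P (isPullback_ι_specMap φ U.1 U.2).isoPullback.hom,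
    IsPullback.isoPullback_hom_snd]
  exact h U.1 U.2

/-- A property local at the target holds for the projection if it holds on the charts. -/
theorem π_of_charts (A : RelSpec.QCAlg S) {P : MorphismProperty Scheme.{u}} [IsZariskiLocalAtTarget P]
    (h : ∀ (U : S.Opens), IsAffineOpen U → P (Spec.map (A.str.app (op U)))) : P A.π := by
  refine IsZariskiLocalAtTarget.of_openCover
    (S.openCoverOfIsOpenCover (fun U : S.affineOpens => U.1) (IsOpenCover.mk (iSup_affineOpens_eq_top S))) fun U => ?_
  show P (pullback.snd A.π U.1.ι)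
  rw [← MorphismProperty.cancel_left_of_respectsIso P (isPullback_ι_π A U.1 U.2).isoPullback.hom,
    IsPullback.isoPullback_hom_snd, MorphismProperty.cancel_right_of_respectsIso P]
  exact h U.1 U.2

variable {E : S.Modules} [E.IsQuasicoherent] {A : RelSpec.QCAlg S} {j : E ⟶ A.toModule}

/-- A symmetric algebra is generated by `E` over affine opens. -/
theorem sym_induction (hj : RelSpec.IsSymAlg E A j) {U : S.Opens} (hU : IsAffineOpen U)
    {P : A.presheaf.obj (op U) → Prop} (hstr : ∀ a, P ((A.str.app (op U)).hom a)) (hgen : ∀ m, P (j.app U m))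
    (hadd : ∀ x y, P x → P y → P (x + y)) (hmul : ∀ x y, P x → P y → P (x * y)) (x : A.presheaf.obj (op U)) : P x := by
  obtain ⟨e, he, he0, he1⟩ := exists_affHom hj U hU
  suffices H : ∀ y : SymAt E U, ∃ x', P x' ∧ e x' = y by
    obtain ⟨x', hx', hx⟩ := H (e x)
    exact he.1 hx ▸ hx'
  intro y
  induction y using SymmetricAlgebra.induction with
  | algebraMap a => exact ⟨_, hstr a, he0 a⟩
  | ι m => exact ⟨_, hgen m, he1 m⟩
  | mul a b ha hb =>
    obtain ⟨a', ha', rfl⟩ := ha; obtain ⟨b', hb', rfl⟩ := hb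
    exact ⟨_, hmul _ _ ha' hb', map_mul e a' b'⟩
  | add a b ha hb =>
    obtain ⟨a', ha', rfl⟩ := ha; obtain ⟨b', hb', rfl⟩ := hb
    exact ⟨_, hadd _ _ ha' hb', map_add e a' b'⟩

end Groth.Agent.SymAlgExist
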