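import Groth.Agent.SymAlgExist.ImmCrit

/-!
# The non-vanishing locus in a trivialisation
-/

set_option autoImplicit false
set_option maxHeartbeats 1600000
set_option synthInstance.maxHeartbeats 400000
universe u
open CategoryTheory CategoryTheory.Limits AlgebraicGeometry TopologicalSpace Opposite HomogeneousLocalization
open scoped HomogeneousIdeal

set_option backward.isDefEq.respectTransparency false

noncomputable section

namespace Groth.Agent.SymAlgExist.ImmCrit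

variable {Y X PL : Scheme.{u}} {q : X ⟶ Y} {L : X.Modules} [L.IsQuasicoherent]
  {𝒮 : RelProj.QCGrAlg Y} {𝒮L : RelProj.QCGrAlg X} {j : L ⟶ 𝒮L.toModule} {u : RelProj.QGrHom q 𝒮 𝒮L}
  {pL : PL ⟶ X} {chartL : ∀ (U : X.Opens) (hU : IsAffineOpen U), (((pL ⁻¹ᵁ U : PL.Opens) : Scheme.{u}) ≅ Proj (𝒮L.deg U hU))}
  (hL : PicF.IsInvertible L) (hj : RelProj.IsGrSymAlg L 𝒮L j) (hPL : RelProj.IsRelProj 𝒮L pL chartL)
  (hY : IsAffineOpen (⊤ : Y.Opens)) {d : ℕ} (hd : 0 < d) (f : 𝒮.presheaf.obj (op ⊤)) (hf : f ∈ 𝒮.deg ⊤ hY d)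

include hL hj hPL hY hd hf in
/-- In a trivialisation the locus is the basic open of the coefficient. -/
theorem locus_inf_eq {U : X.Opens} (hU : IsAffineOpen U) {ℓ : Γ(L, U)} (hℓ : InvBasic.IsBasis L ℓ) (a : Γ(X, U))
    (ha : (u.appLE ⊤ U (le_preimage_top (q := q) U)).hom f = (𝒮L.str.app (op U)).hom a * coord j ℓ ^ d) :
    locus q u f d ⊓ U = X.basicOpen a := by
  have := isIso_pL hL hj hPL
  refine Opens.ext (Set.ext fun x => ⟨?_, fun hx => ?_⟩)
  · rintro ⟨h, hxU⟩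
    obtain ⟨z, rfl⟩ := pL.homeomorph.surjective x
    obtain ⟨y, rfl⟩ := RelProjBasic.exists_emb_eq (chart := chartL) U hU z hxU
    obtain ⟨W, hW, y', hy', h'⟩ := exists_chart_of_nonVanish hL hj hPL hY hd f hf ((mem_locus f _).mp h)
    have h2 := not_mem_of_emb_eq hPL f hW hU y' y hy' h'
    rw [ha, str_mul_pow_not_mem_iff hj hPL U hU hℓ a d y] at h2
    exact h2
  · have hxU : x ∈ U := X.basicOpen_le a hx
    obtain ⟨z, rfl⟩ := pL.homeomorph.surjective x
    obtain ⟨y, rfl⟩ := RelProjBasic.exists_emb_eq (chart := chartL) U hU z hxU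
    refine ⟨(mem_locus f _).mpr (nonVanish_of_chart hL hj hPL hY hd f hf hU y ?_), hxU⟩
    show (u.appLE ⊤ U _).hom f ∉ y.asHomogeneousIdeal
    rw [ha, str_mul_pow_not_mem_iff hj hPL U hU hℓ a d y]
    exact hx

include hL hj hPL hY hd hf in
theorem isCompact_locus [CompactSpace X] : IsCompact (locus q u f d : Set X) := by
  choose U hU hxU hle ℓ hℓ using fun x : X => exists_affine_basis hL x ⊤ (Opens.mem_top _)
  obtain ⟨S, hS⟩ := isCompact_univ.elim_finite_subcover (fun x => (U x : Set X)) (fun x => (U x).2)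
    (fun x _ => Set.mem_iUnion.mpr ⟨x, hxU x⟩)
  have e : (locus q u f d : Set X) = ⋃ x ∈ S, ((locus q u f d ⊓ U x : X.Opens) : Set X) := by
    ext y
    refine ⟨fun hy => ?_, fun hy => ?_⟩
    · obtain ⟨x, hx, hyx⟩ := Set.mem_iUnion₂.mp (hS (Set.mem_univ y))
      exact Set.mem_iUnion₂.mpr ⟨x, hx, hy, hyx⟩
    · obtain ⟨x, -, hyx⟩ := Set.mem_iUnion₂.mp hy
      exact hyx.1
  rw [e]
  refine S.isCompact_biUnion fun x _ => ?_
  obtain ⟨a, ha⟩ := exists_eq_str_mul_pow hj (U x) (hU x) (hℓ x)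
    (show (u.appLE ⊤ (U x) (le_preimage_top (q := q) (U x))).hom f ∈ 𝒮L.deg (U x) (hU x) d from
      u.map_mem ⊤ hY (U x) (hU x) _ hf)
  rw [locus_inf_eq hL hj hPL hY hd f hf (hU x) (hℓ x) a ha]
  exact ((hU x).basicOpen a).isCompact

end Groth.Agent.SymAlgExist.ImmCrit
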