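import Mathlib.LinearAlgebra.SymmetricAlgebra.Basic
import Mathlib.RingTheory.Localization.Away.Basic
import Mathlib.RingTheory.Localization.Module
import Mathlib.Algebra.Module.LocalizedModule.Basic
import Mathlib.Algebra.Module.LocalizedModule.Away

/-!
# The symmetric algebra commutes with localisation at an element
-/

set_option autoImplicit false
set_option maxHeartbeats 800000
universe u

namespace Groth.Agent.SymAlgExist

open SymmetricAlgebra

variable {R R' M M' : Type u} [CommRing R] [CommRing R'] [AddCommGroup M] [Module R M] [AddCommGroup M'] [Module R' M']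
  (g : R →+* R') (f : M →+ M') (hf : ∀ (a : R) (m : M), f (a • m) = g a • f m)

/-- The map of symmetric algebras induced by a semilinear map. -/
noncomputable def symMap : SymmetricAlgebra R M →+* SymmetricAlgebra R' M' :=
  letI := ((algebraMap R' (SymmetricAlgebra R' M')).comp g).toAlgebra
  (SymmetricAlgebra.lift
    ({ toFun := fun m => ι R' M' (f m)
       map_add' := fun a b => by rw [map_add, map_add]
       map_smul' := fun a m => by
        show ι R' M' (f (a • m)) = _
        rw [hf, map_smul, RingHom.id_apply, Algebra.smul_def, Algebra.smul_def]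
        rfl } : M →ₗ[R] SymmetricAlgebra R' M')).toRingHom

theorem symMap_algebraMap (a : R) : symMap g f hf (algebraMap R _ a) = algebraMap R' _ (g a) := by
  let _ := ((algebraMap R' (SymmetricAlgebra R' M')).comp g).toAlgebra
  exact AlgHom.commutes (SymmetricAlgebra.lift _) a

theorem symMap_ι (m : M) : symMap g f hf (ι R M m) = ι R' M' (f m) := by
  let _ := ((algebraMap R' (SymmetricAlgebra R' M')).comp g).toAlgebra
  exact lift_ι_apply _ m

/-- Ring homomorphisms out of a symmetric algebra agree if they agree on generators. -/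
theorem ringHom_ext {A : Type u} [CommRing A] {F G : SymmetricAlgebra R M →+* A}
    (h0 : ∀ a, F (algebraMap R _ a) = G (algebraMap R _ a)) (h1 : ∀ m, F (ι R M m) = G (ι R M m)) : F = G := by
  refine RingHom.ext fun x => ?_
  induction x using SymmetricAlgebra.induction with
  | algebraMap a => exact h0 a
  | ι m => exact h1 m
  | mul a b ha hb => rw [map_mul, map_mul, ha, hb]
  | add a b ha hb => rw [map_add, map_add, ha, hb]

variable (r : R) (hloc : letI := g.toAlgebra; IsLocalization.Away r R')
  (hsurj : ∀ m' : M', ∃ (k : ℕ) (m : M), g r ^ k • m' = f m) (hker : ∀ m, f m = 0 → ∃ k : ℕ, r ^ k • m = 0)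

include hloc hsurj hker in
/-- `Sym` commutes with inverting an element. -/
theorem isLocalization_symMap :
    letI := (symMap g f hf).toAlgebra
    IsLocalization.Away (algebraMap R (SymmetricAlgebra R M) r) (SymmetricAlgebra R' M') := by
  let _ := g.toAlgebra
  let _ := (symMap g f hf).toAlgebra
  let a := algebraMap R (SymmetricAlgebra R M) r
  let Φ := symMap g f hf
  have hu : IsUnit (g r) := IsLocalization.Away.algebraMap_isUnit r
  have hΦa : Φ a = algebraMap R' (SymmetricAlgebra R' M') (g r) := symMap_algebraMap g f hf r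
  have hus : IsUnit (Φ a) := hΦa ▸ hu.map _
  refine IsLocalization.Away.mk a hus (fun y => ?_) (fun x y hxy => ?_)
  · induction y using SymmetricAlgebra.induction with
    | algebraMap b =>
      obtain ⟨k, c, hc⟩ := IsLocalization.Away.surj r b
      exact ⟨k, algebraMap R _ c, (by
        show algebraMap R' _ b * Φ a ^ k = Φ (algebraMap R _ c)
        rw [hΦa, ← map_pow, ← map_mul, symMap_algebraMap]
        exact congrArg _ hc)⟩
    | ι b =>
      obtain ⟨k, m, hm⟩ := hsurj b
      exact ⟨k, ι R M m, (by
        show ι R' M' b * Φ a ^ k = Φ (ι R M m)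
        rw [hΦa, ← map_pow, symMap_ι, ← hm, map_smul, Algebra.smul_def, mul_comm])⟩
    | mul y z hy hz =>
      obtain ⟨k, c, hc⟩ := hy; obtain ⟨l, e, he⟩ := hz
      exact ⟨k + l, c * e, by rw [map_mul, ← hc, ← he, pow_add]; ring⟩
    | add y z hy hz =>
      obtain ⟨k, c, hc⟩ := hy; obtain ⟨l, e, he⟩ := hz
      refine ⟨k + l, c * a ^ l + e * a ^ k, ?_⟩
      rw [map_add, map_mul, map_mul, map_pow, map_pow, ← hc, ← he, pow_add]; ring
  · let L := Localization.Away a
    let cR : R →+* L := (algebraMap (SymmetricAlgebra R M) L).comp (algebraMap R _)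
    have hcu : IsUnit (cR r) := IsLocalization.Away.algebraMap_isUnit a
    let cR' : R' →+* L := IsLocalization.Away.lift r hcu
    have hcc : ∀ t, cR' (g t) = cR t := fun t => IsLocalization.Away.lift_eq r hcu t
    let _ : Algebra R' L := cR'.toAlgebra
    let _ : Module R M' := Module.compHom M' g
    have hsm : ∀ (t : R) (m : M'), t • m = g t • m := fun _ _ => rfl
    have : IsScalarTower R R' M' := IsScalarTower.of_algebraMap_smul fun t m => rfl
    have hsmL : ∀ (t : R) (l : L), t • l = cR t * l := fun t l => by
      rw [Algebra.smul_def, IsScalarTower.algebraMap_apply R (SymmetricAlgebra R M) L]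
      rfl
    have : IsScalarTower R R' L := IsScalarTower.of_algebraMap_smul fun t l => by
      show cR' (g t) * l = t • l
      rw [hsmL, hcc]
    let fl : M →ₗ[R] M' := { toFun := f, map_add' := map_add f, map_smul' := hf }
    have : IsLocalizedModule (Submonoid.powers r) fl := IsLocalizedModule.Away.mk_of_addCommGroup
      (by
        rw [Module.End.isUnit_iff]
        refine ⟨fun p q hpq => ?_, fun p => ⟨(↑hu.unit⁻¹ : R') • p, ?_⟩⟩
        · exact hu.smul_left_cancel.mp hpq
        · show g r • ((↑hu.unit⁻¹ : R') • p) = p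
          rw [smul_smul, IsUnit.mul_val_inv, one_smul])
      (fun m' => by
        obtain ⟨k, m, hm⟩ := hsurj m'
        exact ⟨k, m, by rw [hsm, map_pow]; exact hm⟩)
      (fun m hm => hker m hm)
    let h0 : M →ₗ[R] L :=
      { toFun := fun m => algebraMap (SymmetricAlgebra R M) L (ι R M m)
        map_add' := fun p q => by rw [map_add, map_add]
        map_smul' := fun t m => by
          rw [map_smul, Algebra.smul_def, map_mul, RingHom.id_apply, hsmL]; rfl }
    have hunits : ∀ x : Submonoid.powers r, IsUnit ((algebraMap R (Module.End R L)) x) := by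
      rintro ⟨_, k, rfl⟩
      rw [map_pow]
      refine IsUnit.pow k ((Module.End.isUnit_iff _).mpr ⟨fun p q hpq => hcu.mul_left_cancel (by rw [← hsmL, ← hsmL]; exact hpq), fun p => ⟨↑hcu.unit⁻¹ * p, ?_⟩⟩)
      show r • (↑hcu.unit⁻¹ * p) = p
      rw [hsmL]
      rw [← mul_assoc, IsUnit.mul_val_inv, one_mul]
    let h1 : M' →ₗ[R] L := IsLocalizedModule.lift (Submonoid.powers r) fl h0 hunits
    have hh1 : ∀ m, h1 (f m) = algebraMap (SymmetricAlgebra R M) L (ι R M m) := fun m =>
      IsLocalizedModule.lift_apply (Submonoid.powers r) fl h0 hunits m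
    let ρ : SymmetricAlgebra R' M' →ₐ[R'] L :=
      SymmetricAlgebra.lift (h1.extendScalarsOfIsLocalization (Submonoid.powers r) R')
    have hcomp : ρ.toRingHom.comp Φ = algebraMap (SymmetricAlgebra R M) L := by
      refine ringHom_ext (fun t => ?_) (fun m => ?_)
      · show ρ (Φ (algebraMap R _ t)) = cR t
        rw [symMap_algebraMap, AlgHom.commutes]
        exact hcc t
      · show ρ (Φ (ι R M m)) = _
        rw [symMap_ι]
        exact (lift_ι_apply _ _).trans (hh1 m)
    have e : algebraMap (SymmetricAlgebra R M) L x = algebraMap (SymmetricAlgebra R M) L y := by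
      rw [← hcomp]; exact congrArg ρ hxy
    obtain ⟨⟨_, k, rfl⟩, hk⟩ := (IsLocalization.eq_iff_exists (Submonoid.powers a) L).mp e
    exact ⟨k, hk⟩

end Groth.Agent.SymAlgExist
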