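import Groth.Prelude.Def_RelSpec
import Groth.Prelude.Def_Coh
import Groth.Agent.QCohLib.FiniteType
import Groth.Agent.SymAlgExist.Ring

/-!
# The symmetric algebra of a quasi-coherent module, as a relative gluing datum
-/

set_option autoImplicit false
set_option maxHeartbeats 1600000
set_option synthInstance.maxHeartbeats 400000
universe u
open CategoryTheory CategoryTheory.Limits AlgebraicGeometry TopologicalSpace Opposite

set_option backward.isDefEq.respectTransparency false

noncomputable section

namespace Groth.Agent.SymAlgExist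

variable {S : Scheme.{u}} (E : S.Modules)

/-- `Sym E(U)`. -/
abbrev SymAt (U : S.Opens) : Type u := SymmetricAlgebra Γ(S, U) Γ(E, U)

/-- Restriction of `Sym E`. -/
def symRes {U V : S.Opens} (h : V ≤ U) : SymAt E U →+* SymAt E V :=
  symMap (S.presheaf.map (homOfLE h).op).hom (E.presheaf.map (homOfLE h).op).hom
    (fun a m => Scheme.Modules.map_smul E (homOfLE h) a m)

theorem symRes_algebraMap {U V : S.Opens} (h : V ≤ U) (a : Γ(S, U)) :
    symRes E h (algebraMap _ _ a) = algebraMap _ _ (S.presheaf.map (homOfLE h).op a) :=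
  symMap_algebraMap _ _ _ a

theorem symRes_ι {U V : S.Opens} (h : V ≤ U) (m : Γ(E, U)) :
    symRes E h (SymmetricAlgebra.ι _ _ m) = SymmetricAlgebra.ι _ _ (E.presheaf.map (homOfLE h).op m) :=
  symMap_ι _ _ _ m

/-- `Sym E` on the affine site. -/
def symFunctor : S.AffineZariskiSiteᵒᵖ ⥤ CommRingCat.{u} where
  obj U := CommRingCat.of (SymAt E U.unop.1)
  map {U V} f := CommRingCat.ofHom (symRes E (Scheme.AffineZariskiSite.toOpens_mono f.unop.le))
  map_id U := by
    refine CommRingCat.hom_ext (ringHom_ext (fun a => ?_) fun m => ?_)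
    · refine (symRes_algebraMap E _ a).trans ?_
      rw [show (homOfLE (le_refl U.unop.1)).op = 𝟙 (op U.unop.1) from rfl, CategoryTheory.Functor.map_id]; rfl
    · refine (symRes_ι E _ m).trans ?_
      rw [show (homOfLE (le_refl U.unop.1)).op = 𝟙 (op U.unop.1) from rfl, CategoryTheory.Functor.map_id]; rfl
  map_comp {U V W} f g := by
    refine CommRingCat.hom_ext (ringHom_ext (fun a => ?_) fun m => ?_)
    · refine (symRes_algebraMap E _ a).trans ?_
      show _ = symRes E _ (symRes E _ (algebraMap _ _ a))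
      rw [symRes_algebraMap, symRes_algebraMap, ← CommRingCat.comp_apply, ← Functor.map_comp]; rfl
    · refine (symRes_ι E _ m).trans ?_
      show _ = symRes E _ (symRes E _ (SymmetricAlgebra.ι _ _ m))
      rw [symRes_ι, symRes_ι, ← ConcreteCategory.comp_apply, ← Functor.map_comp]; rfl

/-- Its structure map. -/
def symStr : (Scheme.AffineZariskiSite.toOpensFunctor S).op ⋙ S.presheaf ⟶ symFunctor E where
  app U := CommRingCat.ofHom (algebraMap Γ(S, U.unop.1) (SymAt E U.unop.1))
  naturality U V f := by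
    refine CommRingCat.hom_ext (RingHom.ext fun a => ?_)
    exact (symRes_algebraMap E _ a).symm

theorem symStr_coequifibered [E.IsQuasicoherent] : (symStr E).Coequifibered := by
  rw [Scheme.AffineZariskiSite.coequifibered_iff_forall_isLocalizationAway]
  intro U r
  refine isLocalization_symMap _ _ (fun a m => Scheme.Modules.map_smul E (homOfLE (S.basicOpen_le r)) a m) r (U.2.isLocalization_basicOpen r) (fun m' => ?_) fun m hm => ?_
  · obtain ⟨n, x, hx⟩ := QCohLib.exists_res_eq_pow_smul (M := E) U.2 r _ (S.basicOpen_le r) rfl m'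
    exact ⟨n, x, hx.symm⟩
  · exact QCohLib.exists_pow_smul_eq_zero (M := E) U.2 r _ (S.basicOpen_le r) rfl m hm

variable [E.IsQuasicoherent]

/-- The gluing datum of `V(E)`. -/
def symGluing : (Scheme.AffineZariskiSite.directedCover S).RelativeGluingData :=
  Scheme.AffineZariskiSite.relativeGluingData (symStr_coequifibered E)

instance : ((symGluing E).functor ⋙ Scheme.forget).IsLocallyDirected :=
  Scheme.Cover.RelativeGluingData.instIsLocallyDirectedI₀CompFunctorForgetOfIsThin ..

/-- `V(E)`. -/
def symSpec : Scheme.{u} := (symGluing E).glued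

/-- Its structure morphism. -/
def symπ : symSpec E ⟶ S := (symGluing E).toBase

/-- Its charts. -/
def symι (U : S.Opens) (hU : IsAffineOpen U) : Spec (CommRingCat.of (SymAt E U)) ⟶ symSpec E :=
  (symGluing E).cover.f ⟨U, hU⟩

instance (U : S.Opens) (hU : IsAffineOpen U) : IsOpenImmersion (symι E U hU) := (symGluing E).cover.map_prop _

theorem symι_π (U : S.Opens) (hU : IsAffineOpen U) :
    symι E U hU ≫ symπ E = Spec.map (CommRingCat.ofHom (algebraMap Γ(S, U) (SymAt E U))) ≫ hU.fromSpec :=
  colimit.ι_desc _ _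

theorem symι_res {U V : S.AffineZariskiSite} (i : V ⟶ U) :
    Spec.map ((symFunctor E).map i.op) ≫ symι E U.1 U.2 = symι E V.1 V.2 :=
  colimit.w (symGluing E).functor i

theorem symπ_preimage (U : S.Opens) (hU : IsAffineOpen U) : symπ E ⁻¹ᵁ U = (symι E U hU).opensRange := by
  simpa using! (symGluing E).toBase_preimage_eq_opensRange_ι ⟨U, hU⟩

instance : IsAffineHom (symπ E) := ⟨fun U hU => by
  rw [symπ_preimage E U hU]; exact isAffineOpen_opensRange (symι E U hU)⟩

/-- `Sym E` as a quasi-coherent algebra. -/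
def symAlg : RelSpec.QCAlg S := RelSpec.QCAlg.directImage (symπ E)

theorem top_le_preimage (U : S.Opens) (hU : IsAffineOpen U) :
    (⊤ : (Spec (CommRingCat.of (SymAt E U))).Opens) ≤ symι E U hU ⁻¹ᵁ (symπ E ⁻¹ᵁ U) := by
  rw [← Scheme.Hom.comp_preimage, symι_π, Scheme.Hom.comp_preimage, hU.fromSpec_preimage_self]
  exact le_top

/-- Sections of `Sym E` over an affine open. -/
def sectHom (U : S.Opens) (hU : IsAffineOpen U) :
    (symAlg E).presheaf.obj (op U) ⟶ CommRingCat.of (SymAt E U) :=
  (symι E U hU).appLE (symπ E ⁻¹ᵁ U) ⊤ (top_le_preimage E U hU) ≫ (Scheme.ΓSpecIso (CommRingCat.of (SymAt E U))).hom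

instance isIso_sectHom (U : S.Opens) (hU : IsAffineOpen U) : IsIso (sectHom E U hU) := by
  have hpre : symπ E ⁻¹ᵁ U ≤ (symι E U hU).opensRange := (symπ_preimage E U hU).le
  have := Scheme.Hom.isIso_app (symι E U hU) (symπ E ⁻¹ᵁ U) hpre
  have e : symι E U hU ⁻¹ᵁ (symπ E ⁻¹ᵁ U) = ⊤ := top_le_iff.mp (top_le_preimage E U hU)
  have : IsIso ((Spec (CommRingCat.of (SymAt E U))).presheaf.map (homOfLE (top_le_preimage E U hU)).op) := by
    rw [show (homOfLE (top_le_preimage E U hU)) = eqToHom e.symm from Subsingleton.elim _ _]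
    infer_instance
  unfold sectHom Scheme.Hom.appLE
  infer_instance

theorem sectHom_res {U V : S.AffineZariskiSite} (i : V ⟶ U) :
    (symAlg E).presheaf.map (homOfLE (Scheme.AffineZariskiSite.toOpens_mono i.le)).op ≫ sectHom E V.1 V.2 =
      sectHom E U.1 U.2 ≫ (symFunctor E).map i.op := by
  show (symSpec E).presheaf.map (homOfLE ((symπ E).preimage_mono (Scheme.AffineZariskiSite.toOpens_mono i.le))).op ≫
      sectHom E V.1 V.2 = _
  unfold sectHom
  simp only [Category.assoc]
  erw [← Scheme.ΓSpecIso_naturality]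
  simp only [← Category.assoc]
  congr 1
  simp only [Scheme.Hom.appTop, Scheme.Hom.appLE, Category.assoc]
  have h1 := (Scheme.Hom.comp_app (Spec.map ((symFunctor E).map i.op)) (symι E U.1 U.2) (symπ E ⁻¹ᵁ U.1)).symm
  rw [Scheme.Hom.naturality_assoc]
  erw [Scheme.Hom.naturality, reassoc_of% h1, Scheme.Hom.congr_app (symι_res E i), Category.assoc, ← Functor.map_comp]

theorem str_sectHom (U : S.Opens) (hU : IsAffineOpen U) :
    (symAlg E).str.app (op U) ≫ sectHom E U hU = CommRingCat.ofHom (algebraMap Γ(S, U) (SymAt E U)) := by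
  show (symπ E).app U ≫ sectHom E U hU = _
  have h1 := Scheme.Hom.congr_app (symι_π E U hU) U
  have h2 := (Scheme.Hom.comp_app (symι E U hU) (symπ E) U).symm
  have hk : ∀ k : (op ⊤ : (Spec (CommRingCat.of (SymAt E U))).Opensᵒᵖ) ⟶ op ⊤,
      (Spec (CommRingCat.of (SymAt E U))).presheaf.map k = 𝟙 _ := fun k => by
    rw [Subsingleton.elim k (𝟙 _)]; exact CategoryTheory.Functor.map_id _ _
  simp only [sectHom, Scheme.Hom.appLE, Category.assoc]
  rw [reassoc_of% h2, h1, Scheme.Hom.comp_app, hU.fromSpec_app_self]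
  simp only [Category.assoc]
  rw [Scheme.Hom.naturality_assoc]
  simp only [← Functor.map_comp_assoc]
  erw [hk, Category.id_comp]
  rw [← cancel_epi (Scheme.ΓSpecIso Γ(S, U)).hom, Iso.hom_inv_id_assoc]
  erw [Scheme.ΓSpecIso_naturality]
  rfl

end Groth.Agent.SymAlgExist
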