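import Groth.Agent.SymAlgExist.NonVanish
import Groth.Agent.RelProjBasic.QMapComp

/-!
# When is `r_{L,ψ}` an immersion: standard charts
-/

set_option autoImplicit false
set_option maxHeartbeats 1600000
set_option synthInstance.maxHeartbeats 400000
universe u
open CategoryTheory CategoryTheory.Limits AlgebraicGeometry TopologicalSpace Opposite HomogeneousLocalization
open scoped HomogeneousIdeal

set_option backward.isDefEq.respectTransparency false

noncomputable section

namespace Groth.Agent.SymAlgExist.ImmCrit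

theorem isPullback_of_comp_mono {W A B C D : Scheme.{u}} {c : W ⟶ A} {χ : W ⟶ B} {a : A ⟶ C} {b : B ⟶ C} {m : C ⟶ D}
    [Mono m] (h : IsPullback c χ (a ≫ m) (b ≫ m)) : IsPullback c χ a b := by
  have w : c ≫ a = χ ≫ b := by
    rw [← cancel_mono m, Category.assoc, Category.assoc]
    exact h.w
  have hs : ∀ s : PullbackCone a b, s.fst ≫ a ≫ m = s.snd ≫ b ≫ m := fun s => by
    rw [← Category.assoc, s.condition, Category.assoc]
  exact ⟨⟨w⟩, ⟨PullbackCone.IsLimit.mk w (fun s => h.lift s.fst s.snd (hs s)) (fun s => h.lift_fst _ _ _)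
    (fun s => h.lift_snd _ _ _) (fun s m' h1 h2 => h.hom_ext (h1.trans (h.lift_fst _ _ (hs s)).symm)
      (h2.trans (h.lift_snd _ _ (hs s)).symm))⟩⟩

variable {Y X P PL : Scheme.{u}} {q : X ⟶ Y} {L : X.Modules} [L.IsQuasicoherent]
  {𝒮 : RelProj.QCGrAlg Y} {𝒮L : RelProj.QCGrAlg X} {j : L ⟶ 𝒮L.toModule} {u : RelProj.QGrHom q 𝒮 𝒮L}
  {p : P ⟶ Y} {chart : ∀ (U : Y.Opens) (hU : IsAffineOpen U), (((p ⁻¹ᵁ U : P.Opens) : Scheme.{u}) ≅ Proj (𝒮.deg U hU))}
  {pL : PL ⟶ X} {chartL : ∀ (U : X.Opens) (hU : IsAffineOpen U), (((pL ⁻¹ᵁ U : PL.Opens) : Scheme.{u}) ≅ Proj (𝒮L.deg U hU))}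
  (hL : PicF.IsInvertible L) (hj : RelProj.IsGrSymAlg L 𝒮L j) (hP : RelProj.IsRelProj 𝒮 p chart)
  (hPL : RelProj.IsRelProj 𝒮L pL chartL)
  {r : ((RelProj.domQ u pL chartL : PL.Opens) : Scheme.{u}) ⟶ P}
  (hr : RelProj.IsProjQMapOn u p chart pL chartL (RelProj.domQ u pL chartL) r)
  (hY : IsAffineOpen (⊤ : Y.Opens)) {d : ℕ} (hd : 0 < d) (f : 𝒮.presheaf.obj (op ⊤)) (hf : f ∈ 𝒮.deg ⊤ hY d)

variable (q u) in
/-- Where `t` does not vanish. -/
def locus (f : 𝒮.presheaf.obj (op ⊤)) (d : ℕ) : X.Opens :=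
  ⨆ V : {V : X.affineOpens //
      ((𝒮L.deg V.1 V.2 d : AddSubgroup (𝒮L.presheaf.obj (op (V.1 : X.Opens)))) : Set (𝒮L.presheaf.obj (op (V.1 : X.Opens)))) ⊆
        (Ideal.span {(u.appLE ⊤ (V.1 : X.Opens) (le_top.trans (Scheme.Hom.preimage_top q).ge)).hom f} : Set (𝒮L.presheaf.obj (op (V.1 : X.Opens))))},
    (V.1.1 : X.Opens)

omit [L.IsQuasicoherent] in
theorem mem_locus (x : X) : x ∈ locus q u f d ↔ NonVanish q u f d x := by
  constructor
  · intro h
    obtain ⟨⟨⟨V, hV⟩, h⟩, hx⟩ := Opens.mem_iSup.mp h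
    exact ⟨V, hV, hx, h⟩
  · rintro ⟨V, hV, hx, h⟩
    exact Opens.mem_iSup.mpr ⟨⟨⟨V, hV⟩, h⟩, hx⟩

/-- The chart `D₊(f) ⟶ P`. -/
abbrev dplus (chart : ∀ (U : Y.Opens) (hU : IsAffineOpen U), (((p ⁻¹ᵁ U : P.Opens) : Scheme.{u}) ≅ Proj (𝒮.deg U hU)))
    (hY : IsAffineOpen (⊤ : Y.Opens)) {d : ℕ} (hd : 0 < d) (f : 𝒮.presheaf.obj (op ⊤)) (hf : f ∈ 𝒮.deg ⊤ hY d) :
    Spec (CommRingCat.of (Away (𝒮.deg ⊤ hY) f)) ⟶ P :=
  Proj.awayι (𝒮.deg ⊤ hY) f hf hd ≫ RelProj.emb p chart ⊤ hY

theorem mem_range_dplus (x : P) :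
    x ∈ (dplus chart hY hd f hf).opensRange ↔ ∃ y, RelProj.emb p chart ⊤ hY y = x ∧ f ∉ y.asHomogeneousIdeal := by
  constructor
  · rintro ⟨w, rfl⟩
    exact ⟨Proj.awayι (𝒮.deg ⊤ hY) f hf hd w, rfl,
      (ProjectiveSpectrum.mem_basicOpen _ _ _).mp ((Proj.opensRange_awayι _ _ hf hd).le ⟨w, rfl⟩)⟩
  · rintro ⟨y, rfl, hy⟩
    obtain ⟨w, hw⟩ := (Proj.opensRange_awayι (𝒮.deg ⊤ hY) f hf hd).ge ((ProjectiveSpectrum.mem_basicOpen _ _ _).mpr hy)
    exact ⟨w, congrArg (RelProj.emb p chart ⊤ hY) hw⟩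

include hL hj hP hPL hr in
theorem preimage_dplus :
    r ⁻¹ᵁ (dplus chart hY hd f hf).opensRange = (RelProj.domQ u pL chartL).ι ⁻¹ᵁ (pL ⁻¹ᵁ locus q u f d) := by
  refine Opens.ext (Set.ext fun z => ?_)
  refine (mem_range_dplus hY hd f hf (r z)).trans ((apply_mem_iff hL hj hP hPL hY hd f hf hr z).trans ?_)
  exact (mem_locus f (pL.base z.1)).symm

include hL hj hPL hY hd hf in
theorem preimage_locus_le : pL ⁻¹ᵁ locus q u f d ≤ RelProj.domQ u pL chartL := fun _z hz =>
  mem_domQ_of_nonVanish hL hj hPL hY hd f hf ((mem_locus f _).mp hz)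

include hL hj hPL in
theorem isAffineOpen_locus_iff :
    IsAffineOpen (locus q u f d) ↔ IsAffineOpen (pL ⁻¹ᵁ locus q u f d) := by
  have := isIso_pL hL hj hPL
  refine ⟨fun h => h.preimage_of_isIso pL, fun h => ?_⟩
  have h' := h.image_of_isOpenImmersion pL
  have e : pL ''ᵁ (pL ⁻¹ᵁ locus q u f d) = locus q u f d := by
    rw [Scheme.Hom.image_preimage_eq_opensRange_inf]
    refine inf_eq_right.mpr fun x _ => ?_
    obtain ⟨z, hz⟩ := pL.homeomorph.surjective x
    exact ⟨z, hz⟩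
  rwa [e] at h'

include hPL in
omit [L.IsQuasicoherent] in
/-- Two charts at one point see the same vanishing. -/
theorem not_mem_of_emb_eq {W W' : X.Opens} (hW : IsAffineOpen W) (hW' : IsAffineOpen W') (y : Proj (𝒮L.deg W hW))
    (y' : Proj (𝒮L.deg W' hW')) (e : RelProj.emb pL chartL W hW y = RelProj.emb pL chartL W' hW' y')
    (h : (u.appLE ⊤ W (le_preimage_top (q := q) W)).hom f ∉ y.asHomogeneousIdeal) :
    (u.appLE ⊤ W' (le_preimage_top (q := q) W')).hom f ∉ y'.asHomogeneousIdeal := by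
  obtain ⟨a, b, hab, hxa⟩ := exists_basicOpen_le_affine_inter hW hW' (pL.base (RelProj.emb pL chartL W hW y))
    ⟨RelProjBasic.emb_mem (chart := chartL) W hW y, e ▸ RelProjBasic.emb_mem (chart := chartL) W' hW' y'⟩
  have key : ∀ (V : X.Opens) (hV : IsAffineOpen V) (c : Γ(X, V)) (w : Proj (𝒮L.deg V hV))
      (w' : Proj (𝒮L.deg (X.basicOpen c) (hV.basicOpen c))),
      RelProj.emb pL chartL (X.basicOpen c) (hV.basicOpen c) w' = RelProj.emb pL chartL V hV w →
      ((u.appLE ⊤ V (le_preimage_top (q := q) V)).hom f ∈ w.asHomogeneousIdeal ↔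
        (u.appLE ⊤ (X.basicOpen c) (le_preimage_top (q := q) (X.basicOpen c))).hom f ∈ w'.asHomogeneousIdeal) := by
    intro V hV c w w' ew
    obtain rfl : Proj.map _ (𝒮L.irrelevant_le_map V hV c) w' = w :=
      (RelProj.emb pL chartL V hV).isOpenEmbedding.injective
        ((congrArg (fun g => g.base w') (RelProjBasic.map_res_emb hPL V hV c)).trans ew)
    rw [← appLE_res f hV (hV.basicOpen c) (X.basicOpen_le c)]
    rfl
  obtain ⟨w, hw⟩ := RelProjBasic.exists_emb_eq (chart := chartL) _ (hW.basicOpen a) (RelProj.emb pL chartL W hW y) hxa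
  have h1 := (key W hW a y w hw).not.mp h
  have key2 : ∀ (V V' : X.Opens) (hV : IsAffineOpen V) (hV' : IsAffineOpen V') (_ : V = V') (v : Proj (𝒮L.deg V hV)),
      (u.appLE ⊤ V (le_preimage_top (q := q) V)).hom f ∉ v.asHomogeneousIdeal →
      ∃ v' : Proj (𝒮L.deg V' hV'), RelProj.emb pL chartL V' hV' v' = RelProj.emb pL chartL V hV v ∧
        (u.appLE ⊤ V' (le_preimage_top (q := q) V')).hom f ∉ v'.asHomogeneousIdeal := by
    rintro V _ hV hV' rfl v hv
    exact ⟨v, rfl, hv⟩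
  obtain ⟨w', hw', h2⟩ := key2 _ _ (hW.basicOpen a) (hW'.basicOpen b) hab w h1
  exact (key W' hW' b y' w' (hw'.trans (hw.trans e))).not.mpr h2

section chartLemmas

variable (hV : IsAffineOpen (locus q u f d))

include hL hj hPL hY hd hf in
theorem not_mem_locus_chart (y : Proj (𝒮L.deg (locus q u f d) hV)) :
    (u.appLE ⊤ (locus q u f d) (le_preimage_top (q := q) (locus q u f d))).hom f ∉ y.asHomogeneousIdeal := by
  obtain ⟨W, hW, y', hy', h⟩ := exists_chart_of_nonVanish hL hj hPL hY hd f hf (z := RelProj.emb pL chartL _ hV y)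
    ((mem_locus f _).mp (RelProjBasic.emb_mem (chart := chartL) _ hV y))
  exact not_mem_of_emb_eq hPL f hW hV y' y hy' h

/-- The chart index. -/
abbrev locIx : RelProjBasic.Ix (g := q) (𝒮 := 𝒮) :=
  ⟨⊤, hY, locus q u f d, hV, le_preimage_top (q := q) _, d, hd, f, hf⟩

include hL hj hP hPL hr in
theorem isPullback_locus :
    IsPullback ((locIx hY hd f hf hV).c u pL chartL)
      (Spec.map (CommRingCat.ofHom (Away.map (u.gradedAt ⊤ hY (locus q u f d) hV (le_preimage_top (q := q) _)) f)))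
      r (dplus chart hY hd f hf) := by
  refine (IsOpenImmersion.isPullback _ _ _ _ ((locIx hY hd f hf hV).c_comp hr) ?_).flip
  rw [preimage_dplus hL hj hP hPL hr hY hd f hf]
  refine Opens.ext (Set.ext fun z => ⟨fun hz => ?_, fun hz => ?_⟩)
  · obtain ⟨y, hy⟩ := RelProjBasic.exists_emb_eq (chart := chartL) _ hV z.1 hz
    exact (RelProjBasic.Ix.mem_range_c (locIx hY hd f hf hV) z).mpr ⟨y, hy, not_mem_locus_chart hL hj hPL hY hd f hf hV y⟩
  · obtain ⟨y, hy, -⟩ := (RelProjBasic.Ix.mem_range_c (locIx hY hd f hf hV) z).mp hz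
    show pL.base z.1 ∈ locus q u f d
    rw [← hy]
    exact RelProjBasic.emb_mem (chart := chartL) _ hV y

/-- `O(X_t) → 𝒮L(X_t)_(t)`. -/
def strLoc : Γ(X, locus q u f d) →+*
    Away (𝒮L.deg (locus q u f d) hV) (u.gradedAt ⊤ hY (locus q u f d) hV (le_preimage_top (q := q) _) f) :=
  (fromZeroRingHom _ _).comp (𝒮L.strZero (locus q u f d) hV).hom

include hL hj hPL in
theorem bijective_strLoc (hd : 0 < d) (hf : f ∈ 𝒮.deg ⊤ hY d) : Function.Bijective (strLoc hY f hV) := by
  have := isIso_pL hL hj hPL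
  let g := u.gradedAt ⊤ hY (locus q u f d) hV (le_preimage_top (q := q) _)
  let c : Spec (CommRingCat.of (Away (𝒮L.deg (locus q u f d) hV) (g f))) ⟶ PL :=
    Proj.awayι (𝒮L.deg (locus q u f d) hV) (g f) (g.map_mem hf) hd ≫ RelProj.emb pL chartL (locus q u f d) hV
  have hc : c ≫ pL = Spec.map (CommRingCat.ofHom (strLoc hY f hV)) ≫ hV.fromSpec := by
    rw [Category.assoc, RelProjBasic.emb_comp hPL, Proj.awayι_toSpecZero_assoc, ← Spec.map_comp_assoc]
    rfl
  have hoi : IsOpenImmersion (Spec.map (CommRingCat.ofHom (strLoc hY f hV))) := by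
    have : IsOpenImmersion (Spec.map (CommRingCat.ofHom (strLoc hY f hV)) ≫ hV.fromSpec) := hc ▸ inferInstance
    exact IsOpenImmersion.of_comp _ hV.fromSpec
  have hsurj : Surjective (Spec.map (CommRingCat.ofHom (strLoc hY f hV))) := ⟨fun w => by
    obtain ⟨z, hz⟩ := pL.homeomorph.surjective (hV.fromSpec.base w)
    have hzV : pL.base z ∈ locus q u f d := by
      have : hV.fromSpec.base w ∈ locus q u f d := by
        rw [← SetLike.mem_coe, ← hV.range_fromSpec]
        exact ⟨w, rfl⟩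
      exact (show pL.base z = _ from hz) ▸ this
    obtain ⟨y, rfl⟩ := RelProjBasic.exists_emb_eq (chart := chartL) _ hV z hzV
    obtain ⟨v, hv⟩ := (Proj.opensRange_awayι (𝒮L.deg (locus q u f d) hV) (g f) (g.map_mem hf) hd).ge
      ((ProjectiveSpectrum.mem_basicOpen _ _ _).mpr (not_mem_locus_chart hL hj hPL hY hd f hf hV y))
    refine ⟨v, hV.fromSpec.isOpenEmbedding.injective ?_⟩
    refine (congrArg (fun h => h.base v) hc).symm.trans ?_
    exact (congrArg (fun y => pL.base (RelProj.emb pL chartL (locus q u f d) hV y)) hv).trans hz⟩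
  have : IsIso (Spec.map (CommRingCat.ofHom (strLoc hY f hV))) :=
    isIso_of_isOpenImmersion_of_opensRange_eq_top _ (Opens.ext (Set.eq_univ_of_forall fun y => hsurj.surj y))
  have : IsIso (Scheme.Spec.map (CommRingCat.ofHom (strLoc hY f hV)).op) := ‹IsIso (Spec.map (CommRingCat.ofHom (strLoc hY f hV)))›
  have hiso : IsIso (CommRingCat.ofHom (strLoc hY f hV)).op := isIso_of_fully_faithful Scheme.Spec _
  have := isIso_of_op (CommRingCat.ofHom (strLoc hY f hV))
  exact (ConcreteCategory.isIso_iff_bijective _).mp this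

include hL hj hPL hd hf in
/-- Surjectivity on the chart is condition (iii). -/
theorem surjective_away_iff :
    Function.Surjective (Away.map (u.gradedAt ⊤ hY (locus q u f d) hV (le_preimage_top (q := q) _)) f) ↔
      ∀ t : Γ(X, locus q u f d), ∃ (m : ℕ) (_ : 0 < m) (s' : 𝒮.presheaf.obj (op ⊤)) (_ : s' ∈ 𝒮.deg ⊤ hY (m * d)),
        (𝒮L.str.app (op (locus q u f d))).hom t *
            ((u.appLE ⊤ (locus q u f d) (le_preimage_top (q := q) _)).hom f) ^ m =
          (u.appLE ⊤ (locus q u f d) (le_preimage_top (q := q) _)).hom s' := by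
  let g := u.gradedAt ⊤ hY (locus q u f d) hV (le_preimage_top (q := q) _)
  constructor
  · intro h t
    obtain ⟨x, hx⟩ := h (strLoc hY f hV t)
    obtain ⟨m, a, ha, rfl⟩ := Away.mk_surjective _ hf x
    have hx' := congrArg HomogeneousLocalization.val hx
    rw [Away.map_mk, Away.val_mk] at hx'
    change Localization.mk _ _ = Localization.mk ((𝒮L.str.app (op (locus q u f d))).hom t) ⟨1, _⟩ at hx'
    rw [Localization.mk_eq_mk_iff, Localization.r_iff_exists] at hx'
    obtain ⟨⟨_, k, rfl⟩, hk⟩ := hx'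
    refine ⟨k + m + 1, by omega, f ^ (k + 1) * a, ?_, ?_⟩
    · have h' := SetLike.mul_mem_graded (SetLike.pow_mem_graded (k + 1) hf) ha
      convert h' using 2
      simp only [smul_eq_mul]
      ring
    · show (𝒮L.str.app (op (locus q u f d))).hom t * g f ^ (k + m + 1) = g (f ^ (k + 1) * a)
      change g f ^ k * (1 * g a) = g f ^ k * (g f ^ m * (𝒮L.str.app (op (locus q u f d))).hom t) at hk
      rw [one_mul] at hk
      rw [map_mul, map_pow, pow_succ (g f) k, mul_comm (g f ^ k) (g f), mul_assoc, hk]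
      ring
  · intro h x
    obtain ⟨t, rfl⟩ := (bijective_strLoc hL hj hPL hY f hV hd hf).2 x
    obtain ⟨m, -, s', hs', he⟩ := h t
    refine ⟨Away.mk _ hf m s' (by simpa only [smul_eq_mul] using hs'), HomogeneousLocalization.val_injective _ ?_⟩
    rw [Away.map_mk, Away.val_mk]
    change Localization.mk _ _ = Localization.mk ((𝒮L.str.app (op (locus q u f d))).hom t) ⟨1, _⟩
    rw [Localization.mk_eq_mk_iff, Localization.r_iff_exists]
    refine ⟨1, ?_⟩
    show 1 * (1 * g s') = 1 * (g f ^ m * (𝒮L.str.app (op (locus q u f d))).hom t)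
    rw [show g s' = (𝒮L.str.app (op (locus q u f d))).hom t * g f ^ m from he.symm]
    ring

include hd hf in
omit [L.IsQuasicoherent] in
/-- Injectivity on the chart is condition (iv). -/
theorem injective_away_iff :
    Function.Injective (Away.map (u.gradedAt ⊤ hY (locus q u f d) hV (le_preimage_top (q := q) _)) f) ↔
      ∀ (m : ℕ), 0 < m → ∀ s' ∈ 𝒮.deg ⊤ hY (m * d),
        (u.appLE ⊤ (locus q u f d) (le_preimage_top (q := q) _)).hom s' = 0 → ∃ (k : ℕ), 0 < k ∧ f ^ k * s' = 0 := by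
  let g := u.gradedAt ⊤ hY (locus q u f d) hV (le_preimage_top (q := q) _)
  constructor
  · intro h m _ s' hs' h0
    have hz : Away.mk _ hf m s' (by simpa only [smul_eq_mul] using hs') = 0 := h (by
      rw [map_zero]
      refine HomogeneousLocalization.val_injective _ ?_
      rw [Away.map_mk, Away.val_mk, HomogeneousLocalization.val_zero]
      change Localization.mk (g s') _ = 0
      rw [show g s' = 0 from h0]
      exact Localization.mk_zero _)
    have hz' := congrArg HomogeneousLocalization.val hz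
    rw [Away.val_mk, HomogeneousLocalization.val_zero, Localization.mk_eq_mk', IsLocalization.mk'_eq_zero_iff] at hz'
    obtain ⟨⟨_, k, rfl⟩, hk⟩ := hz'
    refine ⟨k + 1, by omega, ?_⟩
    rw [pow_succ, mul_right_comm]
    exact (congrArg (· * f) hk).trans (zero_mul f)
  · intro h
    refine (injective_iff_map_eq_zero _).mpr fun x hx => ?_
    obtain ⟨m, a, ha, rfl⟩ := Away.mk_surjective _ hf x
    have hx' := congrArg HomogeneousLocalization.val hx
    rw [Away.map_mk, Away.val_mk, HomogeneousLocalization.val_zero, Localization.mk_eq_mk',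
      IsLocalization.mk'_eq_zero_iff] at hx'
    obtain ⟨⟨_, k, rfl⟩, hk⟩ := hx'
    obtain ⟨l, -, hl⟩ := h (k + m + 1) (by omega) (f ^ (k + 1) * a) (by
        have h' := SetLike.mul_mem_graded (SetLike.pow_mem_graded (k + 1) hf) ha
        convert h' using 2
        simp only [smul_eq_mul]
        ring) (by
        show g (f ^ (k + 1) * a) = 0
        change g f ^ k * g a = 0 at hk
        rw [map_mul, map_pow, pow_succ, mul_right_comm, hk, zero_mul])
    refine HomogeneousLocalization.val_injective _ ?_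
    rw [Away.val_mk, HomogeneousLocalization.val_zero, Localization.mk_eq_mk', IsLocalization.mk'_eq_zero_iff]
    refine ⟨⟨f ^ (l + (k + 1)), _, rfl⟩, ?_⟩
    show f ^ (l + (k + 1)) * a = 0
    rw [pow_add, mul_assoc, hl]

end chartLemmas

end Groth.Agent.SymAlgExist.ImmCrit
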